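import Mathlib
import Groth.Prelude.Def_C1
import Groth.Agent.S0603
import Groth.Agent.S9126
import Groth.Agent.S9684
import Groth.Agent.Lib.Helper8.FlatReg5
import Groth.Agent.Lib.Helper4.DimEq2

set_option linter.style.haveILetI false
set_option linter.unusedVariables false
set_option linter.unusedSectionVars false
set_option autoImplicit false
set_option backward.isDefEq.respectTransparency.types false
set_option synthInstance.maxHeartbeats 400000
set_option maxHeartbeats 1600000

namespace Groth.Agent.Helper7.Spz

open CategoryTheory CategoryTheory.Limits AlgebraicGeometry IsLocalRing TopologicalSpace Opposite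

universe u

/-! helper7: the spectrum of a discrete valuation ring as a base for cycles: universally catenary, dimension function, generators of the maximal ideals of its stalks -/

theorem isPrincipalIdealRing_of_isLocalization {A B : Type u} [CommRing A]
    [IsPrincipalIdealRing A] (M : Submonoid A) [CommRing B] [Algebra A B] [IsLocalization M B] :
    IsPrincipalIdealRing B :=
  ⟨fun J => by
    obtain ⟨x, hx⟩ := (IsPrincipalIdealRing.principal (J.comap (algebraMap A B))).principal
    refine ⟨⟨algebraMap A B x, ?_⟩⟩
    have h1 : J = (J.comap (algebraMap A B)).map (algebraMap A B) :=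
      (IsLocalization.map_under M B J).symm
    have h2 : J.comap (algebraMap A B) = Ideal.span {x} := hx
    rw [h2, Ideal.map_span, Set.image_singleton] at h1
    exact h1⟩

variable (R : Type u) [CommRing R] [IsDomain R] [IsDiscreteValuationRing R]

/-- a discrete valuation ring is universally catenary -/
theorem isUniversallyCatenary_dvr : CAlg.IsUniversallyCatenary R := by
  haveI : LocCoh.IsCohenMacaulayRing R :=
    { isCohenMacaulayLocalRing_localization := fun p hp => by
        haveI : IsPrincipalIdealRing (Localization.AtPrime p) :=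
          isPrincipalIdealRing_of_isLocalization p.primeCompl
        exact Groth.Agent.Helper8.FlatReg.isCohenMacaulayLocalRing_of_isRegularLocalRing _ }
  exact Groth.Agent.S0603.result R

theorem asIdeal_eq_bot_of_ne (p : PrimeSpectrum R) (hp : p ≠ IsLocalRing.closedPoint R) :
    p.asIdeal = ⊥ := by
  by_contra hne
  apply hp
  have hmax : p.asIdeal.IsMaximal := p.isPrime.isMaximal hne
  exact PrimeSpectrum.ext (IsLocalRing.eq_maximalIdeal hmax)

/-- the dimension function on the spectrum of a discrete valuation ring -/
noncomputable def δS : Spec (CommRingCat.of R) → ℤ :=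
  fun p => by
    classical
    exact if p = IsLocalRing.closedPoint R then 0 else 1

theorem δS_closed : δS R (IsLocalRing.closedPoint R) = 0 := by
  unfold δS
  rw [if_pos rfl]

theorem δS_of_ne (p : Spec (CommRingCat.of R)) (hp : p ≠ IsLocalRing.closedPoint R) :
    δS R p = 1 := by
  unfold δS
  rw [if_neg hp]

theorem isSetup_spec_dvr : Cyc.IsSetup (Spec (CommRingCat.of R)) (δS R) := by
  refine ⟨inferInstance, ?_, ?_⟩
  · intro x
    have hR : CAlg.IsUniversallyCatenary R := isUniversallyCatenary_dvr R
    have e1 : R ≃+* Γ(Spec (CommRingCat.of R), ⊤) :=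
      (Scheme.ΓSpecIso (CommRingCat.of R)).symm.commRingCatIsoToRingEquiv
    have hΓ : CAlg.IsUniversallyCatenary Γ(Spec (CommRingCat.of R), ⊤) :=
      Groth.Agent.Lib.Helper4.DimEq2.isUniversallyCatenary_of_ringEquiv e1 hR
    letI := (Spec (CommRingCat.of R)).presheaf.algebra_section_stalk (U := ⊤) ⟨x, trivial⟩
    haveI := (isAffineOpen_top (Spec (CommRingCat.of R))).isLocalization_stalk ⟨x, trivial⟩
    haveI : Algebra.EssFiniteType Γ(Spec (CommRingCat.of R), ⊤)
        ((Spec (CommRingCat.of R)).presheaf.stalk x) :=
      Algebra.EssFiniteType.of_isLocalization _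
        ((isAffineOpen_top (Spec (CommRingCat.of R))).primeIdealOf ⟨x, trivial⟩).asIdeal.primeCompl
    exact Groth.Agent.S9126.result Γ(Spec (CommRingCat.of R), ⊤)
      ((Spec (CommRingCat.of R)).presheaf.stalk x) hΓ
  · intro x y hxy hne
    have hle : PrimeSpectrum.asIdeal x ≤ PrimeSpectrum.asIdeal y :=
      (PrimeSpectrum.le_iff_specializes x y).2 hxy
    have hy : y = IsLocalRing.closedPoint R := by
      by_contra hy
      have hy0 := asIdeal_eq_bot_of_ne R y hy
      rw [hy0, le_bot_iff] at hle
      exact hne (PrimeSpectrum.ext (by rw [hle, hy0]))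
    have hx : x ≠ IsLocalRing.closedPoint R := by
      rw [← hy]
      exact hne
    rw [hy, δS_closed, δS_of_ne R x hx]
    exact ⟨by norm_num, fun _ => by norm_num⟩

/-- the maximal ideal of a stalk of the spectrum of a discrete valuation ring is generated by the
image of an element of the ring, regular at the closed point and zero elsewhere -/
theorem exists_gen_maximalIdeal_stalk (p : Spec (CommRingCat.of R)) :
    ∃ (φ : R →+* (Spec (CommRingCat.of R)).presheaf.stalk p) (t : R),
      maximalIdeal ((Spec (CommRingCat.of R)).presheaf.stalk p) = Ideal.span {φ t} ∧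
      (p = IsLocalRing.closedPoint R →
        φ t ∈ nonZeroDivisors ((Spec (CommRingCat.of R)).presheaf.stalk p)) ∧
      (p ≠ IsLocalRing.closedPoint R → t = 0) := by
  letI alg : Algebra R ((Spec (CommRingCat.of R)).presheaf.stalk p) :=
    StructureSheaf.stalkAlgebra R p
  haveI hloc : IsLocalization.AtPrime ((Spec (CommRingCat.of R)).presheaf.stalk p)
      (PrimeSpectrum.asIdeal p) := StructureSheaf.IsLocalization.to_stalk R p
  have hmax := IsLocalization.AtPrime.map_eq_maximalIdeal (PrimeSpectrum.asIdeal p)
    ((Spec (CommRingCat.of R)).presheaf.stalk p)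
  obtain ⟨ϖ, hϖ⟩ := IsDiscreteValuationRing.exists_irreducible R
  by_cases hp : p = IsLocalRing.closedPoint R
  · refine ⟨algebraMap R _, ϖ, ?_, fun _ => ?_, fun h => absurd hp h⟩
    · rw [← hmax]
      have h1 : PrimeSpectrum.asIdeal p = Ideal.span {ϖ} := by
        rw [hp]
        exact hϖ.maximalIdeal_eq
      rw [h1, Ideal.map_span, Set.image_singleton]
    · have hinj : Function.Injective
          (algebraMap R ((Spec (CommRingCat.of R)).presheaf.stalk p)) :=
        IsLocalization.injective _ (PrimeSpectrum.asIdeal p).primeCompl_le_nonZeroDivisors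
      haveI : IsDomain ((Spec (CommRingCat.of R)).presheaf.stalk p) :=
        IsLocalization.isDomain_of_le_nonZeroDivisors _
          (PrimeSpectrum.asIdeal p).primeCompl_le_nonZeroDivisors
      apply mem_nonZeroDivisors_of_ne_zero
      intro h0
      exact hϖ.ne_zero (hinj (by rw [h0, map_zero]))
  · refine ⟨algebraMap R _, 0, ?_, fun h => absurd h hp, fun _ => rfl⟩
    rw [← hmax, asIdeal_eq_bot_of_ne R p hp, Ideal.map_bot, map_zero]
    exact (Ideal.span_singleton_eq_bot.2 rfl).symm

theorem genericPoint_ne_closedPoint :
    genericPoint (Spec (CommRingCat.of R)) ≠ IsLocalRing.closedPoint R := by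
  intro h
  have h1 := genericPoint_eq_bot_of_affine (CommRingCat.of R)
  rw [h] at h1
  have h2 : maximalIdeal R = ⊥ := congrArg PrimeSpectrum.asIdeal h1
  exact IsDiscreteValuationRing.not_isField R ((IsLocalRing.isField_iff_maximalIdeal_eq).2 h2)

theorem eq_genericPoint_of_ne (p : Spec (CommRingCat.of R))
    (hp : p ≠ IsLocalRing.closedPoint R) : p = genericPoint (Spec (CommRingCat.of R)) := by
  rw [genericPoint_eq_bot_of_affine (CommRingCat.of R)]
  exact PrimeSpectrum.ext (asIdeal_eq_bot_of_ne R p hp)

end Groth.Agent.Helper7.Spz
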