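import Mathlib
import Groth.Prelude.Def_C1
import Groth.Agent.Lib.Helper3.FibStalk
import Groth.Agent.Lib.Helper4.Aff2
import Groth.Agent.Lib.Helper7.CycPull.Main
import Groth.Agent.Lib.Helper7.KL.GysinMod
import Groth.Agent.Lib.Helper7.Spz.Base

set_option linter.style.haveILetI false
set_option linter.unusedVariables false
set_option linter.unusedSectionVars false
set_option autoImplicit false
set_option backward.isDefEq.respectTransparency.types false
set_option synthInstance.maxHeartbeats 400000
set_option maxHeartbeats 1600000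

namespace Groth.Agent.Helper7.Spz

open CategoryTheory CategoryTheory.Limits AlgebraicGeometry IsLocalRing TopologicalSpace Opposite
open Groth.Agent.Helper1.QcCech Groth.Agent.Helper1.LGen Groth.Agent.Lead.RkSch
open Groth.Agent.Lead.SecOrd Groth.Agent.Helper7.CycLim Groth.Agent.Helper7.DivFin
open Groth.Agent.Helper7.CycPull Groth.Agent.Helper7.KL
open Groth.Agent.Lib.Helper4.FibDim1 Groth.Agent.Lib.Helper4.Aff2 Groth.Agent.Helper3.FibStalk

universe u

/-! helper7: specialization of the cycle of a coherent sheaf flat over a DVR (spz_sheaf) -/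

section General

theorem nontrivial_iff_of_length_eq {A B M N : Type u} [CommRing A] [CommRing B] [AddCommGroup M]
    [Module A M] [AddCommGroup N] [Module B N] (h : Module.length A M = Module.length B N) :
    Nontrivial M ↔ Nontrivial N := by
  rw [← not_subsingleton_iff_nontrivial, ← not_subsingleton_iff_nontrivial,
    ← Module.length_eq_zero_iff (R := A), ← Module.length_eq_zero_iff (R := B), h]

theorem stalkSpecializes_mem_maximalIdeal {Y : Scheme.{u}} (p₁ p₂ : Y) (h' : p₁ ⤳ p₂)
    (he : p₁ = p₂) (c : Y.presheaf.stalk p₂) (hc : c ∈ maximalIdeal (Y.presheaf.stalk p₂)) :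
    (Y.presheaf.stalkSpecializes h').hom c ∈ maximalIdeal (Y.presheaf.stalk p₁) := by
  subst he
  have h1 : Y.presheaf.stalkSpecializes h' = 𝟙 _ :=
    TopCat.Presheaf.stalkSpecializes_refl Y.presheaf p₁
  rw [h1]
  exact hc

/-- elements of the extension of the maximal ideal of the base die in the residue fields of the
generizations lying in the same fibre -/
theorem specMap_eq_zero_of_mem_map {X Y : Scheme.{u}} (f : X ⟶ Y) (x ξ : X) (h : ξ ⤳ x)
    (he : f ξ = f x) (b : X.presheaf.stalk x)
    (hb : b ∈ (maximalIdeal (Y.presheaf.stalk (f x))).map (f.stalkMap x).hom) :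
    Cyc.specMap x ξ h b = 0 := by
  have hle : (maximalIdeal (Y.presheaf.stalk (f x))).map (f.stalkMap x).hom ≤
      RingHom.ker (Cyc.specMap x ξ h) := by
    rw [Ideal.map_le_iff_le_comap]
    intro c hc
    rw [Ideal.mem_comap, RingHom.mem_ker]
    have h1 := Scheme.Hom.stalkSpecializes_stalkMap_apply f ξ x h c
    have h2 := stalkSpecializes_mem_maximalIdeal (f ξ) (f x) (f.base.hom.map_specializes h) he c hc
    have h3 : (X.presheaf.stalkSpecializes h).hom ((f.stalkMap x).hom c) =
        (f.stalkMap ξ).hom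
          ((Y.presheaf.stalkSpecializes (f.base.hom.map_specializes h)).hom c) := h1.symm
    show (X.residue ξ).hom ((X.presheaf.stalkSpecializes h).hom ((f.stalkMap x).hom c)) = 0
    rw [h3]
    refine (IsLocalRing.residue_eq_zero_iff _).2 ?_
    rw [IsLocalRing.mem_maximalIdeal, mem_nonunits_iff]
    intro hu
    exact ((IsLocalRing.mem_maximalIdeal _).1 h2) (isUnit_of_map_unit (f.stalkMap ξ).hom _ hu)
  exact RingHom.mem_ker.1 (hle hb)

end General

section Fibre

variable (R : Type u) [CommRing R] [IsDomain R] [IsDiscreteValuationRing R]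

/-- stalks of the pullback of a module to a fibre over the spectrum of a discrete valuation
ring -/
theorem fibre_stalk {X : Scheme.{u}} (a : X ⟶ Spec (CommRingCat.of R)) (F : X.Modules)
    (y : Spec (CommRingCat.of R)) (w : a.fiber y) :
    ∃ t' : X.presheaf.stalk (a.fiberι y w),
      (maximalIdeal ((Spec (CommRingCat.of R)).presheaf.stalk (a (a.fiberι y w)))).map
        (a.stalkMap (a.fiberι y w)).hom = Ideal.span {t'} ∧
      Module.length ((a.fiber y).presheaf.stalk w)
        (((Scheme.Modules.pullback (a.fiberι y)).obj F).presheaf.stalk w) =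
        Module.length (X.presheaf.stalk (a.fiberι y w))
          (F.presheaf.stalk (a.fiberι y w) ⧸
            LinearMap.range (mu t' (F.presheaf.stalk (a.fiberι y w)))) ∧
      (y ≠ IsLocalRing.closedPoint R → t' = 0) ∧
      (y = IsLocalRing.closedPoint R → FlatMod.IsFlatOverAt a F (a.fiberι y w) →
        Function.Injective (fun m : F.presheaf.stalk (a.fiberι y w) => t' • m)) := by
  have hax : a (a.fiberι y w) = y := fiberι_mem a y w
  obtain ⟨φ, t, hmax, hnzd, ht0⟩ := exists_gen_maximalIdeal_stalk R (a (a.fiberι y w))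
  have hmap : (maximalIdeal ((Spec (CommRingCat.of R)).presheaf.stalk
      (a (a.fiberι y w)))).map (a.stalkMap (a.fiberι y w)).hom =
      Ideal.span {(a.stalkMap (a.fiberι y w)).hom (φ t)} := by
    rw [hmax, Ideal.map_span, Set.image_singleton]
  refine ⟨(a.stalkMap (a.fiberι y w)).hom (φ t), hmap, ?_, ?_, ?_⟩
  · exact length_stalk_pullback_surj (a.fiberι y) F w _ ((a.fiberι y).stalkMap_surjective w)
      (by rw [ker_stalkMap_fiberι, hmap])
  · intro hy
    rw [ht0 (by rw [hax]; exact hy), map_zero, map_zero]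
  · intro hy hfl
    have hz := hnzd (by rw [hax]; exact hy)
    letI := FlatMod.moduleStalkOver a F (a.fiberι y w)
    have hreg : IsSMulRegular (F.presheaf.stalk (a.fiberι y w)) (φ t) :=
      @Module.Flat.isSMulRegular_of_nonZeroDivisors _ _ _ _ _ (φ t) hz hfl
    exact hreg

end Fibre

section Main

variable (R : Type u) [CommRing R] [IsDomain R] [IsDiscreteValuationRing R]

/-- specialization of the cycle of a coherent module flat over a discrete valuation ring -/
theorem spz_sheaf (η : Spec (CommRingCat.of R)) (hηs : η ≠ IsLocalRing.closedPoint R)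
    (X : Scheme.{u}) (a : X ⟶ Spec (CommRingCat.of R)) [LocallyOfFiniteType a]
    (δη : ↥(a.fiber η) → ℤ) (δs : ↥(a.fiber (IsLocalRing.closedPoint R)) → ℤ)
    (hδη : Cyc.DeltaCompat (a.fiberToSpecResidueField η) δη (fun _ => 0))
    (hδs : Cyc.DeltaCompat (a.fiberToSpecResidueField (IsLocalRing.closedPoint R)) δs
      (fun _ => 0)) [IsLocallyNoetherian X] (r : ℤ) (F : X.Modules) (hF : Coh.IsCoh F)
    (hflat : FlatMod.IsFlatOver a F)
    (hdim : ∀ ζ : ↥(a.fiber η), Nontrivial (((Scheme.Modules.pullback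
      (a.fiberι η)).obj F).presheaf.stalk ζ) → δη ζ ≤ r) :
    (∀ x : ↥(a.fiber (IsLocalRing.closedPoint R)), Nontrivial (((Scheme.Modules.pullback
      (a.fiberι (IsLocalRing.closedPoint R))).obj F).presheaf.stalk x) → δs x ≤ r) ∧
    Cyc.spFun a η (IsLocalRing.closedPoint R) δη δs r
      (Cyc.sheafFun δη r ((Scheme.Modules.pullback (a.fiberι η)).obj F)) =
      Cyc.sheafFun δs r ((Scheme.Modules.pullback
        (a.fiberι (IsLocalRing.closedPoint R))).obj F) := by
  have hS := isSetup_spec_dvr R
  haveI : F.IsQuasicoherent := hF.1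
  obtain ⟨δX, hδXdef⟩ : ∃ δX : X → ℤ, ∀ z, δX z = δS R (a z) + (tr a z : ℤ) :=
    ⟨fun z => δS R (a z) + (tr a z : ℤ), fun z => rfl⟩
  have hcompat : Cyc.DeltaCompat a δX (δS R) := fun z => ⟨tr a z, tr_spec a z, hδXdef z⟩
  have hδX : Cyc.IsDimFun X δX := Groth.Agent.S9684.result a (δS R) hS δX hcompat
  have hδXη : ∀ ζ : a.fiber η, δX (a.fiberι η ζ) = δη ζ + 1 := by
    intro ζ
    have h1 := delta_eq_of_deltaCompat (a.fiberToSpecResidueField η) δη (fun _ => 0) hδη ζ
    rw [tr_fiber] at h1
    rw [hδXdef, fiberι_mem a η ζ, δS_of_ne R η hηs, h1]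
    ring
  have hδXs : ∀ x : a.fiber (IsLocalRing.closedPoint R),
      δX (a.fiberι (IsLocalRing.closedPoint R) x) = δs x := by
    intro x
    have h1 := delta_eq_of_deltaCompat (a.fiberToSpecResidueField (IsLocalRing.closedPoint R))
      δs (fun _ => 0) hδs x
    rw [tr_fiber] at h1
    rw [hδXdef, fiberι_mem a (IsLocalRing.closedPoint R) x, δS_closed, h1]
  -- the generic fibre
  have hlenη : ∀ ζ : a.fiber η, Module.length ((a.fiber η).presheaf.stalk ζ)
      (((Scheme.Modules.pullback (a.fiberι η)).obj F).presheaf.stalk ζ) =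
      Module.length (X.presheaf.stalk (a.fiberι η ζ)) (F.presheaf.stalk (a.fiberι η ζ)) := by
    intro ζ
    obtain ⟨t', -, hlen, ht0, -⟩ := fibre_stalk R a F η ζ
    rw [hlen, ht0 hηs]
    have hbot : LinearMap.range (mu (0 : X.presheaf.stalk (a.fiberι η ζ))
        (F.presheaf.stalk (a.fiberι η ζ))) = ⊥ := by
      show LinearMap.range (LinearMap.lsmul _ _ (0 : X.presheaf.stalk (a.fiberι η ζ))) = ⊥
      rw [map_zero, LinearMap.range_zero]
    rw [hbot]
    exact (Submodule.quotEquivOfEqBot ⊥ rfl).length_eq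
  have hNη : ∀ ζ : a.fiber η, Nontrivial (((Scheme.Modules.pullback
      (a.fiberι η)).obj F).presheaf.stalk ζ) ↔ Nontrivial (F.presheaf.stalk (a.fiberι η ζ)) :=
    fun ζ => nontrivial_iff_of_length_eq (hlenη ζ)
  -- the special fibre
  have hspec : ∀ x : a.fiber (IsLocalRing.closedPoint R),
      ∃ t' : X.presheaf.stalk (a.fiberι (IsLocalRing.closedPoint R) x),
      (maximalIdeal ((Spec (CommRingCat.of R)).presheaf.stalk
        (a (a.fiberι (IsLocalRing.closedPoint R) x)))).map
        (a.stalkMap (a.fiberι (IsLocalRing.closedPoint R) x)).hom = Ideal.span {t'} ∧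
      Module.length ((a.fiber (IsLocalRing.closedPoint R)).presheaf.stalk x)
        (((Scheme.Modules.pullback (a.fiberι (IsLocalRing.closedPoint R))).obj F).presheaf.stalk
          x) =
        Module.length (X.presheaf.stalk (a.fiberι (IsLocalRing.closedPoint R) x))
          (F.presheaf.stalk (a.fiberι (IsLocalRing.closedPoint R) x) ⧸
            LinearMap.range (mu t'
              (F.presheaf.stalk (a.fiberι (IsLocalRing.closedPoint R) x)))) ∧
      Function.Injective
        (fun m : F.presheaf.stalk (a.fiberι (IsLocalRing.closedPoint R) x) => t' • m) := by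
    intro x
    obtain ⟨t', hmap, hlen, -, hinj⟩ := fibre_stalk R a F (IsLocalRing.closedPoint R) x
    exact ⟨t', hmap, hlen, hinj rfl (hflat _)⟩
  have hNs : ∀ x : a.fiber (IsLocalRing.closedPoint R), Nontrivial (((Scheme.Modules.pullback
      (a.fiberι (IsLocalRing.closedPoint R))).obj F).presheaf.stalk x) →
      Nontrivial (F.presheaf.stalk (a.fiberι (IsLocalRing.closedPoint R) x)) := by
    intro x hN
    obtain ⟨t', -, hlen, -⟩ := hspec x
    by_contra hcon
    have hsub : Subsingleton (F.presheaf.stalk (a.fiberι (IsLocalRing.closedPoint R) x)) :=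
      not_nontrivial_iff_subsingleton.mp hcon
    haveI : Subsingleton (F.presheaf.stalk (a.fiberι (IsLocalRing.closedPoint R) x) ⧸
        LinearMap.range (mu t' (F.presheaf.stalk (a.fiberι (IsLocalRing.closedPoint R) x)))) :=
      (Submodule.Quotient.mk_surjective _).subsingleton
    have h0 : Module.length (X.presheaf.stalk (a.fiberι (IsLocalRing.closedPoint R) x))
        (F.presheaf.stalk (a.fiberι (IsLocalRing.closedPoint R) x) ⧸
        LinearMap.range (mu t' (F.presheaf.stalk (a.fiberι (IsLocalRing.closedPoint R) x)))) = 0 :=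
      Module.length_eq_zero
    rw [h0, Module.length_eq_zero_iff] at hlen
    exact not_subsingleton _ hlen
  -- points of the special fibre in the support
  have hgen : ∀ x : a.fiber (IsLocalRing.closedPoint R),
      Nontrivial (F.presheaf.stalk (a.fiberι (IsLocalRing.closedPoint R) x)) → δs x ≤ r := by
    intro x hN
    obtain ⟨t', hmap, -, hinj⟩ := hspec x
    haveI hfinM : Module.Finite (X.presheaf.stalk (a.fiberι (IsLocalRing.closedPoint R) x))
        (F.presheaf.stalk (a.fiberι (IsLocalRing.closedPoint R) x)) :=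
      Groth.Agent.Helper7.FinType.stalk_finite_of_isCoh F hF _
    have hne_top : Module.annihilator
        (X.presheaf.stalk (a.fiberι (IsLocalRing.closedPoint R) x))
        (F.presheaf.stalk (a.fiberι (IsLocalRing.closedPoint R) x)) ≠ ⊤ :=
      fun h => not_subsingleton _ (Module.annihilator_eq_top_iff.1 h)
    obtain ⟨⟨q, hq⟩⟩ := Ideal.nonempty_minimalPrimes hne_top
    have hass := Module.associatedPrimes.minimalPrimes_annihilator_subset_associatedPrimes _ _ hq
    have ht'q : t' ∉ q := by
      intro hmem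
      have hmem' : t' ∈ ⋃ p ∈ associatedPrimes
          (X.presheaf.stalk (a.fiberι (IsLocalRing.closedPoint R) x))
          (F.presheaf.stalk (a.fiberι (IsLocalRing.closedPoint R) x)), (p : Set _) :=
        Set.mem_biUnion hass hmem
      rw [biUnion_associatedPrimes_eq_zero_divisors] at hmem'
      obtain ⟨m, hm0, hm⟩ := hmem'
      apply hm0
      apply hinj
      show t' • m = t' • 0
      rw [hm, smul_zero]
    haveI := hq.1.1
    obtain ⟨ξ, hξ, hkξ⟩ := exists_point_of_prime (a.fiberι (IsLocalRing.closedPoint R) x) q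
    have hNξ : Nontrivial (F.presheaf.stalk ξ) :=
      (nontrivial_stalk_iff F _ ξ hξ).2 (by rw [hkξ]; exact hq.1.2)
    have haξ : a ξ ≠ IsLocalRing.closedPoint R := by
      intro h
      apply ht'q
      rw [← hkξ, RingHom.mem_ker]
      refine specMap_eq_zero_of_mem_map a _ ξ hξ ?_ t' ?_
      · rw [h, fiberι_mem a (IsLocalRing.closedPoint R) x]
      · rw [hmap]
        exact Ideal.subset_span rfl
    have haξ' : a ξ = η := by
      rw [eq_genericPoint_of_ne R (a ξ) haξ, ← eq_genericPoint_of_ne R η hηs]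
    obtain ⟨ζ, hζ⟩ : ∃ ζ : a.fiber η, a.fiberι η ζ = ξ := by
      have h1 : ξ ∈ Set.range (a.fiberι η) := by
        rw [a.range_fiberι]
        exact haξ'
      exact h1
    have hne : ξ ≠ a.fiberι (IsLocalRing.closedPoint R) x := by
      intro h
      apply haξ
      rw [h, fiberι_mem a (IsLocalRing.closedPoint R) x]
    have h1 := (hδX ξ _ hξ hne).1
    have h2 : δη ζ ≤ r := hdim ζ ((hNη ζ).2 (by rw [hζ]; exact hNξ))
    have h3 := hδXη ζ
    rw [hζ] at h3
    have h4 := hδXs x
    omega
  refine ⟨fun x hN => hgen x (hNs x hN), ?_⟩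
  funext x
  by_cases hx : δs x = r
  swap
  · unfold Cyc.spFun Cyc.sheafFun
    rw [if_neg hx, if_neg hx]
  obtain ⟨t', hmap, hlen, hinj⟩ := hspec x
  have hx₀ : δX (a.fiberι (IsLocalRing.closedPoint R) x) = r := by rw [hδXs, hx]
  have hdimX : ∀ z : X, Nontrivial (F.presheaf.stalk z) → δX z ≤ r + 1 := by
    intro z hN
    by_cases hz : a z = IsLocalRing.closedPoint R
    · obtain ⟨x', hx'⟩ : ∃ x' : a.fiber (IsLocalRing.closedPoint R),
          a.fiberι (IsLocalRing.closedPoint R) x' = z := by
        have h1 : z ∈ Set.range (a.fiberι (IsLocalRing.closedPoint R)) := by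
          rw [a.range_fiberι]
          exact hz
        exact h1
      subst hx'
      have h2 := hgen x' hN
      rw [hδXs]
      omega
    · have hz' : a z = η := by
        rw [eq_genericPoint_of_ne R (a z) hz, ← eq_genericPoint_of_ne R η hηs]
      obtain ⟨ζ, hζ⟩ : ∃ ζ : a.fiber η, a.fiberι η ζ = z := by
        have h1 : z ∈ Set.range (a.fiberι η) := by
          rw [a.range_fiberι]
          exact hz'
        exact h1
      subst hζ
      have h2 := hdim ζ ((hNη ζ).2 hN)
      rw [hδXη]
      omega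
  obtain ⟨hrne, hform⟩ := local_formula_module δX hδX r F hF hdimX
    (a.fiberι (IsLocalRing.closedPoint R) x) hx₀ t' hinj
  have hRHS : Cyc.sheafFun δs r ((Scheme.Modules.pullback
      (a.fiberι (IsLocalRing.closedPoint R))).obj F) x =
      ((Module.length (X.presheaf.stalk (a.fiberι (IsLocalRing.closedPoint R) x))
        (F.presheaf.stalk (a.fiberι (IsLocalRing.closedPoint R) x) ⧸
          LinearMap.range (mu t'
            (F.presheaf.stalk (a.fiberι (IsLocalRing.closedPoint R) x))))).toNat : ℤ) := by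
    unfold Cyc.sheafFun
    rw [if_pos hx, hlen]
  rw [hRHS, hform]
  unfold Cyc.spFun
  rw [if_pos hx]
  -- the points of the generic fibre specializing to the point
  have hneη : ∀ ζ : a.fiber η, a.fiberι η ζ ≠ a.fiberι (IsLocalRing.closedPoint R) x := by
    intro ζ h
    apply hηs
    rw [← fiberι_mem a η ζ, h, fiberι_mem a (IsLocalRing.closedPoint R) x]
  let emb : {ζ : ↥(a.fiber η) // δη ζ = r ∧
      (a.fiberι η ζ) ⤳ (a.fiberι (IsLocalRing.closedPoint R) x)} →
      {ξ : X // ξ ⤳ a.fiberι (IsLocalRing.closedPoint R) x ∧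
        ξ ≠ a.fiberι (IsLocalRing.closedPoint R) x} :=
    fun ζ => ⟨a.fiberι η ζ.1, ζ.2.2, hneη ζ.1⟩
  have hemb_inj : Function.Injective emb := by
    intro ζ ζ' h
    have h1 : a.fiberι η ζ.1 = a.fiberι η ζ'.1 := congrArg Subtype.val h
    exact Subtype.ext ((a.fiberι η).isEmbedding.injective h1)
  have hsuppT : Function.support (fun t : {ξ : X //
      ξ ⤳ a.fiberι (IsLocalRing.closedPoint R) x ∧
        ξ ≠ a.fiberι (IsLocalRing.closedPoint R) x} =>
      ((Module.length (X.presheaf.stalk t.1) (F.presheaf.stalk t.1)).toNat : ℤ) *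
        Cyc.ordAt (a.fiberι (IsLocalRing.closedPoint R) x) t.1 t.2.1
          (Cyc.specMap (a.fiberι (IsLocalRing.closedPoint R) x) t.1 t.2.1 t')) ⊆
      Set.range emb := by
    intro t ht
    rw [Function.mem_support] at ht
    have hN : Nontrivial (F.presheaf.stalk t.1) := by
      by_contra hcon
      apply ht
      have hsub : Subsingleton (F.presheaf.stalk t.1) := not_nontrivial_iff_subsingleton.mp hcon
      have h0 : Module.length (X.presheaf.stalk t.1) (F.presheaf.stalk t.1) = 0 :=
        Module.length_eq_zero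
      rw [h0]
      simp
    have h1 := (hδX t.1 _ t.2.1 t.2.2).1
    have hat : a t.1 ≠ IsLocalRing.closedPoint R := by
      intro hz
      obtain ⟨x', hx'⟩ : ∃ x' : a.fiber (IsLocalRing.closedPoint R),
          a.fiberι (IsLocalRing.closedPoint R) x' = t.1 := by
        have h2 : t.1 ∈ Set.range (a.fiberι (IsLocalRing.closedPoint R)) := by
          rw [a.range_fiberι]
          exact hz
        exact h2
      have h3 := hgen x' (by rw [hx']; exact hN)
      have h4 := hδXs x'
      rw [hx'] at h4
      omega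
    have hat' : a t.1 = η := by
      rw [eq_genericPoint_of_ne R (a t.1) hat, ← eq_genericPoint_of_ne R η hηs]
    obtain ⟨ζ, hζ⟩ : ∃ ζ : a.fiber η, a.fiberι η ζ = t.1 := by
      have h2 : t.1 ∈ Set.range (a.fiberι η) := by
        rw [a.range_fiberι]
        exact hat'
      exact h2
    have h5 := hδXη ζ
    rw [hζ] at h5
    have h6 := hdimX t.1 hN
    have hδζ : δη ζ = r := by omega
    refine ⟨⟨ζ, hδζ, by rw [hζ]; exact t.2.1⟩, Subtype.ext hζ⟩
  have hsum : (∑ᶠ t : {ξ : X // ξ ⤳ a.fiberι (IsLocalRing.closedPoint R) x ∧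
        ξ ≠ a.fiberι (IsLocalRing.closedPoint R) x},
      ((Module.length (X.presheaf.stalk t.1) (F.presheaf.stalk t.1)).toNat : ℤ) *
        Cyc.ordAt (a.fiberι (IsLocalRing.closedPoint R) x) t.1 t.2.1
          (Cyc.specMap (a.fiberι (IsLocalRing.closedPoint R) x) t.1 t.2.1 t')) =
      ∑ᶠ ζ : {ζ : ↥(a.fiber η) // δη ζ = r ∧
        (a.fiberι η ζ) ⤳ (a.fiberι (IsLocalRing.closedPoint R) x)},
        ((Module.length (X.presheaf.stalk (a.fiberι η ζ.1))
          (F.presheaf.stalk (a.fiberι η ζ.1))).toNat : ℤ) *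
          Cyc.ordAt (a.fiberι (IsLocalRing.closedPoint R) x) (a.fiberι η ζ.1) ζ.2.2
            (Cyc.specMap (a.fiberι (IsLocalRing.closedPoint R) x) (a.fiberι η ζ.1) ζ.2.2 t') := by
    rw [← finsum_mem_range (f := fun t : {ξ : X //
      ξ ⤳ a.fiberι (IsLocalRing.closedPoint R) x ∧
        ξ ≠ a.fiberι (IsLocalRing.closedPoint R) x} =>
      ((Module.length (X.presheaf.stalk t.1) (F.presheaf.stalk t.1)).toNat : ℤ) *
        Cyc.ordAt (a.fiberι (IsLocalRing.closedPoint R) x) t.1 t.2.1
          (Cyc.specMap (a.fiberι (IsLocalRing.closedPoint R) x) t.1 t.2.1 t')) hemb_inj,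
      finsum_mem_def, Set.indicator_eq_self.mpr hsuppT]
  rw [hsum]
  refine finsum_congr (fun ζ => ?_)
  have e1 : Cyc.sheafFun δη r ((Scheme.Modules.pullback (a.fiberι η)).obj F) ζ.1 =
      ((Module.length (X.presheaf.stalk (a.fiberι η ζ.1))
        (F.presheaf.stalk (a.fiberι η ζ.1))).toNat : ℤ) := by
    unfold Cyc.sheafFun
    rw [if_pos ζ.2.1, hlenη]
  rw [e1]
  by_cases hN : Nontrivial (F.presheaf.stalk (a.fiberι η ζ.1))
  swap
  · have hsub : Subsingleton (F.presheaf.stalk (a.fiberι η ζ.1)) :=
      not_nontrivial_iff_subsingleton.mp hN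
    have h0 : Module.length (X.presheaf.stalk (a.fiberι η ζ.1))
        (F.presheaf.stalk (a.fiberι η ζ.1)) = 0 := Module.length_eq_zero
    rw [h0]
    simp
  congr 1
  have hrζ : Cyc.specMap (a.fiberι (IsLocalRing.closedPoint R) x) (a.fiberι η ζ.1) ζ.2.2 t' ≠ 0 :=
    hrne _ ζ.2.2 (hneη ζ.1) hN
  have himm : ∀ z : X, (a.fiberι η ζ.1) ⤳ z → z ⤳ (a.fiberι (IsLocalRing.closedPoint R) x) →
      z = a.fiberι η ζ.1 ∨ z = a.fiberι (IsLocalRing.closedPoint R) x := by
    intro z h1 h2
    by_contra hcon
    rw [not_or] at hcon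
    have h3 := (hδX _ z h1 (Ne.symm hcon.1)).1
    have h4 := (hδX z _ h2 hcon.2).1
    have h5 := hδXη ζ.1
    have h6 := ζ.2.1
    omega
  rw [ordAt_specMap_eq _ _ ζ.2.2 himm t' hrζ]
  congr 1
  -- the length of the quotient of the local ring of the closure
  have hJ : (maximalIdeal ((Spec (CommRingCat.of R)).presheaf.stalk
      (a (a.fiberι (IsLocalRing.closedPoint R) x)))).map
      ((Ideal.Quotient.mk (RingHom.ker (Cyc.specMap (a.fiberι (IsLocalRing.closedPoint R) x)
        (a.fiberι η ζ.1) ζ.2.2))).comp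
        (a.stalkMap (a.fiberι (IsLocalRing.closedPoint R) x)).hom) =
      Ideal.span {Ideal.Quotient.mk (RingHom.ker (Cyc.specMap
        (a.fiberι (IsLocalRing.closedPoint R) x) (a.fiberι η ζ.1) ζ.2.2)) t'} := by
    rw [← Ideal.map_map, hmap, Ideal.map_span, Set.image_singleton]
  rw [hJ]
  unfold Ring.ord
  congr 1
  exact Module.length_eq_of_surjective
    (S := X.presheaf.stalk (a.fiberι (IsLocalRing.closedPoint R) x))
    (R := Cyc.LocQuot (a.fiberι (IsLocalRing.closedPoint R) x) (a.fiberι η ζ.1) ζ.2.2)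
    Ideal.Quotient.mk_surjective

end Main

end Groth.Agent.Helper7.Spz
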