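import Mathlib
import Groth.Prelude.Def_C1
import Groth.Agent.Lib.Helper7.Spz.Main
import Groth.Agent.Lib.Helper7.KL.ZeroPush
import Groth.Agent.Lib.Helper7.KL.FlatLocal

set_option linter.style.haveILetI false
set_option linter.unusedVariables false
set_option linter.unusedSectionVars false
set_option autoImplicit false
set_option backward.isDefEq.respectTransparency.types false
set_option synthInstance.maxHeartbeats 400000
set_option maxHeartbeats 1600000

namespace Groth.Agent.Helper7.Spz

open CategoryTheory CategoryTheory.Limits AlgebraicGeometry IsLocalRing TopologicalSpace Opposite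
open Groth.Agent.Helper1.QcCech Groth.Agent.Helper1.LGen Groth.Agent.Lead.RkSch
open Groth.Agent.Lead.SecOrd Groth.Agent.Helper7.CycLim Groth.Agent.Helper7.DivFin
open Groth.Agent.Helper7.CycPull Groth.Agent.Helper7.KL
open Groth.Agent.Lib.Helper4.FibDim1 Groth.Agent.Lib.Helper4.Aff2 Groth.Agent.Helper3.FibStalk

universe u

/-! helper7: specialization of the cycle of a closed subscheme flat over a DVR (spz_sub) -/

/-! helper7: specialization of the cycle of a closed subscheme flat over a DVR (spz_sub) -/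

section Gen

theorem stalkMap_comp_hom {W X S : Scheme.{u}} (ι : W ⟶ X) (a : X ⟶ S) (w : W) :
    ((ι ≫ a).stalkMap w).hom = (ι.stalkMap w).hom.comp (a.stalkMap (ι w)).hom := by
  rw [Scheme.Hom.stalkMap_comp]
  rfl

theorem length_of_surj_ker {A B : Type u} [CommRing A] [CommRing B] (ψ : A →+* B)
    (hψ : Function.Surjective ψ) (K : Ideal A) (hK : RingHom.ker ψ = K) :
    Module.length B B = Module.length A (A ⧸ K) := by
  subst hK
  rw [← length_self_of_ringEquiv (RingHom.quotientKerEquivOfSurjective hψ)]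
  exact (Module.length_eq_of_surjective (S := A) (R := A ⧸ RingHom.ker ψ)
    (M := A ⧸ RingHom.ker ψ) Ideal.Quotient.mk_surjective).symm

theorem subschemeFun_eq_zero {Y Z : Scheme.{u}} (δ : Y → ℤ) (k : ℤ) (i : Z ⟶ Y) (y : Y)
    (hy : y ∉ Set.range ⇑i) : Cyc.subschemeFun δ k i y = 0 := by
  unfold Cyc.subschemeFun
  split_ifs
  · have h0 : {z : Z | i z = y} = ∅ :=
      Set.eq_empty_iff_forall_notMem.2 (fun z hz => hy ⟨z, hz⟩)
    rw [h0, finsum_mem_empty]
  · rfl

theorem subschemeFun_eq_of_injective {Y Z : Scheme.{u}} (δ : Y → ℤ) (k : ℤ) (i : Z ⟶ Y)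
    (hi : Function.Injective ⇑i) (z : Z) (hk : δ (i z) = k) :
    Cyc.subschemeFun δ k i (i z) =
      ((Module.length (Z.presheaf.stalk z) (Z.presheaf.stalk z)).toNat : ℤ) := by
  unfold Cyc.subschemeFun
  rw [if_pos hk]
  have h0 : {z' : Z | i z' = i z} = {z} := by
    ext z'
    simp only [Set.mem_ofPred_eq, Set.mem_singleton_iff]
    exact ⟨fun h => hi h, fun h => by rw [h]⟩
  rw [h0, finsum_mem_singleton]

/-- transfer of the stalk map along an isomorphism of the source -/
theorem stalkMap_of_iso_comp {Z Z' W S : Scheme.{u}} (f : Z ⟶ W) (e : Z ⟶ Z') [IsIso e]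
    (g : Z' ⟶ W) (hfg : f = e ≫ g) (b : W ⟶ S) (z : Z)
    (hg : Function.Surjective (g.stalkMap (e z)).hom)
    (hk : RingHom.ker (g.stalkMap (e z)).hom =
      (maximalIdeal (S.presheaf.stalk (b (g (e z))))).map (b.stalkMap (g (e z))).hom) :
    Function.Surjective (f.stalkMap z).hom ∧
    RingHom.ker (f.stalkMap z).hom =
      (maximalIdeal (S.presheaf.stalk (b (f z)))).map (b.stalkMap (f z)).hom := by
  subst hfg
  have hcomp : ((e ≫ g).stalkMap z).hom = (e.stalkMap z).hom.comp (g.stalkMap (e z)).hom :=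
    stalkMap_comp_hom e g z
  have hbij : Function.Bijective (e.stalkMap z).hom :=
    ConcreteCategory.bijective_of_isIso (e.stalkMap z)
  constructor
  · rw [hcomp]
    exact hbij.2.comp hg
  · have h3 : RingHom.ker ((e ≫ g).stalkMap z).hom = RingHom.ker (g.stalkMap (e z)).hom := by
      have h4 := RingHom.ker_comp_of_injective (g.stalkMap (e z)).hom hbij.1
      rw [← h4]
      exact congrArg RingHom.ker hcomp
    exact h3.trans hk

/-- the local rings of the base change of a fibre along a morphism -/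
theorem stalkMap_fst_fibre {X W S : Scheme.{u}} (ι : W ⟶ X) (a : X ⟶ S) (y : S)
    (z : ↥(pullback ι (a.fiberι y))) :
    Function.Surjective ((pullback.fst ι (a.fiberι y)).stalkMap z).hom ∧
    RingHom.ker ((pullback.fst ι (a.fiberι y)).stalkMap z).hom =
      (maximalIdeal (S.presheaf.stalk (a (ι (pullback.fst ι (a.fiberι y) z))))).map
        ((ι.stalkMap (pullback.fst ι (a.fiberι y) z)).hom.comp
          (a.stalkMap (ι (pullback.fst ι (a.fiberι y) z))).hom) := by
  have hfac : pullback.fst ι (a.fiberι y) =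
      (pullbackRightPullbackFstIso a (S.fromSpecResidueField y) ι).hom ≫ (ι ≫ a).fiberι y :=
    (pullbackRightPullbackFstIso_hom_fst a (S.fromSpecResidueField y) ι).symm
  obtain ⟨h1, h2⟩ := stalkMap_of_iso_comp (pullback.fst ι (a.fiberι y))
    (pullbackRightPullbackFstIso a (S.fromSpecResidueField y) ι).hom ((ι ≫ a).fiberι y) hfac
    (ι ≫ a) z (((ι ≫ a).fiberι y).stalkMap_surjective _)
    (ker_stalkMap_fiberι (ι ≫ a) y _)
  refine ⟨h1, ?_⟩
  rw [h2, stalkMap_comp_hom]
  rfl

variable {X W : Scheme.{u}} (ι : W ⟶ X) [IsClosedImmersion ι]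

/-- transfer of orders along a closed immersion -/
theorem ord_closedImmersion (w ξW : W) (hW : ξW ⤳ w) (ξ : X) (hξ : ι ξW = ξ) (h : ξ ⤳ ι w)
    (tX : X.presheaf.stalk (ι w)) :
    Ring.ord (Cyc.LocQuot (ι w) ξ h) (Ideal.Quotient.mk _ tX) =
      Ring.ord (Cyc.LocQuot w ξW hW) (Ideal.Quotient.mk _ ((ι.stalkMap w).hom tX)) := by
  subst hξ
  have hcomap := comap_ker_specMap_stalkMap ι w ξW hW h
  have hφ : Function.Surjective (ι.stalkMap w).hom := ι.stalkMap_surjective w
  let e0 : Cyc.LocQuot (ι w) (ι ξW) h →+* Cyc.LocQuot w ξW hW :=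
    Ideal.quotientMap _ (ι.stalkMap w).hom (le_of_eq hcomap.symm)
  have hinj : Function.Injective e0 := Ideal.quotientMap_injective' (le_of_eq hcomap)
  have hsurj : Function.Surjective e0 := Ideal.quotientMap_surjective hφ
  rw [KL.ord_ringEquiv (RingEquiv.ofBijective e0 ⟨hinj, hsurj⟩) (Ideal.Quotient.mk _ tX)]
  rfl

end Gen

section Main

variable (R : Type u) [CommRing R] [IsDomain R] [IsDiscreteValuationRing R]

/-- specialization of the cycle of a closed subscheme flat over a discrete valuation ring -/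
theorem spz_sub (η : Spec (CommRingCat.of R)) (hηs : η ≠ IsLocalRing.closedPoint R)
    (X : Scheme.{u}) (a : X ⟶ Spec (CommRingCat.of R)) [LocallyOfFiniteType a]
    (δη : ↥(a.fiber η) → ℤ) (δs : ↥(a.fiber (IsLocalRing.closedPoint R)) → ℤ)
    (hδη : Cyc.DeltaCompat (a.fiberToSpecResidueField η) δη (fun _ => 0))
    (hδs : Cyc.DeltaCompat (a.fiberToSpecResidueField (IsLocalRing.closedPoint R)) δs
      (fun _ => 0)) (r : ℤ) (W : Scheme.{u}) (ι : W ⟶ X) [IsClosedImmersion ι] [Flat (ι ≫ a)]
    (hdim : ∀ ζ : ↥(a.fiber η), a.fiberι η ζ ∈ Set.range ⇑ι → δη ζ ≤ r) :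
    (∀ x : ↥(a.fiber (IsLocalRing.closedPoint R)),
      a.fiberι (IsLocalRing.closedPoint R) x ∈ Set.range ⇑ι → δs x ≤ r) ∧
    Cyc.spFun a η (IsLocalRing.closedPoint R) δη δs r
      (Cyc.subschemeFun δη r (pullback.snd ι (a.fiberι η))) =
      Cyc.subschemeFun δs r (pullback.snd ι (a.fiberι (IsLocalRing.closedPoint R))) := by
  have hS := isSetup_spec_dvr R
  haveI : IsLocallyNoetherian (Spec (CommRingCat.of R)) := hS.1
  haveI : IsLocallyNoetherian X := LocallyOfFiniteType.isLocallyNoetherian a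
  haveI : IsLocallyNoetherian W := LocallyOfFiniteType.isLocallyNoetherian ι
  obtain ⟨δX, hδXdef⟩ : ∃ δX : X → ℤ, ∀ z, δX z = δS R (a z) + (tr a z : ℤ) :=
    ⟨fun z => δS R (a z) + (tr a z : ℤ), fun z => rfl⟩
  have hcompat : Cyc.DeltaCompat a δX (δS R) := fun z => ⟨tr a z, tr_spec a z, hδXdef z⟩
  have hδX : Cyc.IsDimFun X δX := Groth.Agent.S9684.result a (δS R) hS δX hcompat
  have hδXη : ∀ ζ : a.fiber η, δX (a.fiberι η ζ) = δη ζ + 1 := by
    intro ζ
    have h1 := delta_eq_of_deltaCompat (a.fiberToSpecResidueField η) δη (fun _ => 0) hδη ζ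
    rw [tr_fiber] at h1
    rw [hδXdef, fiberι_mem a η ζ, δS_of_ne R η hηs, h1]
    ring
  have hδXs : ∀ x : a.fiber (IsLocalRing.closedPoint R),
      δX (a.fiberι (IsLocalRing.closedPoint R) x) = δs x := by
    intro x
    have h1 := delta_eq_of_deltaCompat (a.fiberToSpecResidueField (IsLocalRing.closedPoint R))
      δs (fun _ => 0) hδs x
    rw [tr_fiber] at h1
    rw [hδXdef, fiberι_mem a (IsLocalRing.closedPoint R) x, δS_closed, h1]
  have hδW : Cyc.IsDimFun W (fun w => δX (ι w)) := isDimFun_closedImmersion ι δX hδX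
  have hιinj : Function.Injective ⇑ι := ι.isClosedEmbedding.injective
  have hιind := ι.isClosedEmbedding.toIsEmbedding.toIsInducing
  have hιcl : IsClosed (Set.range ⇑ι) := ι.isClosedEmbedding.isClosed_range
  have hsndinj : ∀ y : Spec (CommRingCat.of R),
      Function.Injective ⇑(pullback.snd ι (a.fiberι y)) :=
    fun y => (pullback.snd ι (a.fiberι y)).isClosedEmbedding.injective
  have hcond : ∀ (y : Spec (CommRingCat.of R)) (z : ↥(pullback ι (a.fiberι y))),
      ι (pullback.fst ι (a.fiberι y) z) = a.fiberι y (pullback.snd ι (a.fiberι y) z) := by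
    intro y z
    show (pullback.fst ι (a.fiberι y) ≫ ι) z = (pullback.snd ι (a.fiberι y) ≫ a.fiberι y) z
    rw [pullback.condition]
  have hfib : ∀ (y : Spec (CommRingCat.of R)) (P : X), a P = y →
      ∃ ζ : a.fiber y, a.fiberι y ζ = P := by
    intro y P hP
    have h1 : P ∈ Set.range (a.fiberι y) := by
      rw [a.range_fiberι]
      exact hP
    exact h1
  have hgenpt : ∀ P : X, a P ≠ IsLocalRing.closedPoint R → a P = η := by
    intro P hP
    rw [eq_genericPoint_of_ne R (a P) hP, ← eq_genericPoint_of_ne R η hηs]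
  -- the local equation of the special fibre
  have hpt : ∀ w : W, ∃ tX : X.presheaf.stalk (ι w),
      (maximalIdeal ((Spec (CommRingCat.of R)).presheaf.stalk (a (ι w)))).map
        (a.stalkMap (ι w)).hom = Ideal.span {tX} ∧
      (a (ι w) = IsLocalRing.closedPoint R →
        ∀ c : W.presheaf.stalk w, (ι.stalkMap w).hom tX * c = 0 → c = 0) ∧
      (a (ι w) ≠ IsLocalRing.closedPoint R → tX = 0) := by
    intro w
    obtain ⟨φ, t, hmax, hnzd, ht0⟩ := exists_gen_maximalIdeal_stalk R (a (ι w))
    refine ⟨(a.stalkMap (ι w)).hom (φ t), ?_, ?_, ?_⟩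
    · rw [hmax, Ideal.map_span, Set.image_singleton]
    · intro hcp c hc
      have hz := hnzd hcp
      have hfl : ((ι ≫ a).stalkMap w).hom.Flat := Flat.stalkMap (ι ≫ a) w
      letI alg : Algebra ((Spec (CommRingCat.of R)).presheaf.stalk (a (ι w)))
          (W.presheaf.stalk w) := ((ι ≫ a).stalkMap w).hom.toAlgebra
      have hreg : IsSMulRegular (W.presheaf.stalk w) (φ t) :=
        @Module.Flat.isSMulRegular_of_nonZeroDivisors _ _ _ _ _ (φ t) hz hfl
      apply hreg
      show (φ t) • c = (φ t) • (0 : W.presheaf.stalk w)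
      rw [smul_zero, Algebra.smul_def]
      have h1 : algebraMap ((Spec (CommRingCat.of R)).presheaf.stalk (a (ι w)))
          (W.presheaf.stalk w) (φ t) = (ι.stalkMap w).hom ((a.stalkMap (ι w)).hom (φ t)) := by
        show ((ι ≫ a).stalkMap w).hom (φ t) = _
        rw [stalkMap_comp_hom]
        rfl
      rw [h1]
      exact hc
    · intro hne
      rw [ht0 hne, map_zero, map_zero]
  -- points of the special fibre of W have generizations in the generic fibre
  have hgenW : ∀ w : W, a (ι w) = IsLocalRing.closedPoint R → δX (ι w) ≤ r := by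
    intro w hcp
    obtain ⟨tX, hmap, hreg, -⟩ := hpt w
    have hreg' := hreg hcp
    obtain ⟨⟨q, hq⟩⟩ := Ideal.nonempty_minimalPrimes
      (I := (⊥ : Ideal (W.presheaf.stalk w))) bot_ne_top
    have htq : (ι.stalkMap w).hom tX ∉ q := by
      intro hmem
      exact Set.disjoint_left.mp (Ideal.disjoint_nonZeroDivisors_of_mem_minimalPrimes hq) hmem
        (mem_nonZeroDivisors_iff_left.2 hreg')
    haveI := hq.1.1
    obtain ⟨ξW, hξ, hkξ⟩ := exists_point_of_prime w q
    have haξ : a (ι ξW) ≠ IsLocalRing.closedPoint R := by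
      intro h
      apply htq
      rw [← hkξ, RingHom.mem_ker]
      refine specMap_eq_zero_of_mem_map (ι ≫ a) w ξW hξ ?_ _ ?_
      · show a (ι ξW) = a (ι w)
        rw [h, hcp]
      · have hmem : tX ∈ (maximalIdeal ((Spec (CommRingCat.of R)).presheaf.stalk
            (a (ι w)))).map (a.stalkMap (ι w)).hom := by
          rw [hmap]
          exact Ideal.subset_span rfl
        have h2 := Ideal.mem_map_of_mem (ι.stalkMap w).hom hmem
        rw [Ideal.map_map, ← stalkMap_comp_hom] at h2
        exact h2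
    have haξ' : a (ι ξW) = η := hgenpt _ haξ
    obtain ⟨ζ, hζ⟩ := hfib η (ι ξW) haξ'
    have hne : ξW ≠ w := fun h => haξ (by rw [h]; exact hcp)
    have h1 : δX (ι w) < δX (ι ξW) := (hδW ξW w hξ hne).1
    have h2 : δη ζ ≤ r := hdim ζ (by rw [hζ]; exact ⟨ξW, rfl⟩)
    have h3 := hδXη ζ
    rw [hζ] at h3
    omega
  have hdimW : ∀ w' : W, δX (ι w') ≤ r + 1 := by
    intro w'
    by_cases hcp : a (ι w') = IsLocalRing.closedPoint R
    · have h1 := hgenW w' hcp
      omega
    · obtain ⟨ζ, hζ⟩ := hfib η (ι w') (hgenpt _ hcp)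
      have h2 : δη ζ ≤ r := hdim ζ (by rw [hζ]; exact ⟨w', rfl⟩)
      have h3 := hδXη ζ
      rw [hζ] at h3
      omega
  refine ⟨fun x hx => ?_, ?_⟩
  · obtain ⟨w, hw⟩ := hx
    have h1 := hgenW w (by rw [hw]; exact fiberι_mem a _ x)
    rw [hw, hδXs] at h1
    exact h1
  -- the local rings of the fibres of W
  have hlenη : ∀ z : ↥(pullback ι (a.fiberι η)),
      Module.length ((pullback ι (a.fiberι η)).presheaf.stalk z)
        ((pullback ι (a.fiberι η)).presheaf.stalk z) =
      Module.length (W.presheaf.stalk (pullback.fst ι (a.fiberι η) z))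
        (W.presheaf.stalk (pullback.fst ι (a.fiberι η) z)) := by
    intro z
    obtain ⟨hs, hk⟩ := stalkMap_fst_fibre ι a η z
    have hne : a (ι (pullback.fst ι (a.fiberι η) z)) ≠ IsLocalRing.closedPoint R := by
      rw [hcond η z, fiberι_mem a η _]
      exact hηs
    obtain ⟨tX, hmap, -, ht0⟩ := hpt (pullback.fst ι (a.fiberι η) z)
    have hbot : RingHom.ker ((pullback.fst ι (a.fiberι η)).stalkMap z).hom = ⊥ := by
      rw [hk, ← Ideal.map_map, hmap, ht0 hne, Ideal.map_span, Set.image_singleton, map_zero]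
      exact Ideal.span_singleton_eq_bot.2 rfl
    have hinj : Function.Injective ((pullback.fst ι (a.fiberι η)).stalkMap z).hom :=
      (RingHom.injective_iff_ker_eq_bot _).2 hbot
    exact (length_self_of_ringEquiv (RingEquiv.ofBijective _ ⟨hinj, hs⟩)).symm
  have hlens : ∀ z : ↥(pullback ι (a.fiberι (IsLocalRing.closedPoint R))),
      Module.length ((pullback ι (a.fiberι (IsLocalRing.closedPoint R))).presheaf.stalk z)
        ((pullback ι (a.fiberι (IsLocalRing.closedPoint R))).presheaf.stalk z) =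
      Module.length
        (W.presheaf.stalk (pullback.fst ι (a.fiberι (IsLocalRing.closedPoint R)) z))
        (W.presheaf.stalk (pullback.fst ι (a.fiberι (IsLocalRing.closedPoint R)) z) ⧸
          (maximalIdeal ((Spec (CommRingCat.of R)).presheaf.stalk
            (a (ι (pullback.fst ι (a.fiberι (IsLocalRing.closedPoint R)) z))))).map
            ((ι.stalkMap (pullback.fst ι (a.fiberι (IsLocalRing.closedPoint R)) z)).hom.comp
              (a.stalkMap
                (ι (pullback.fst ι (a.fiberι (IsLocalRing.closedPoint R)) z))).hom)) := by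
    intro z
    obtain ⟨hs, hk⟩ := stalkMap_fst_fibre ι a (IsLocalRing.closedPoint R) z
    exact length_of_surj_ker _ hs _ hk
  -- the formula at a point of the special fibre of W
  have key : ∀ (w : W) (P : X) (hP : ι w = P), a P = IsLocalRing.closedPoint R → δX P = r →
      (∑ᶠ ζ : {ζ : ↥(a.fiber η) // δη ζ = r ∧ (a.fiberι η ζ) ⤳ P},
        Cyc.subschemeFun δη r (pullback.snd ι (a.fiberι η)) ζ.1 *
        ((Module.length (X.presheaf.stalk P) (Cyc.LocQuot P (a.fiberι η ζ.1) ζ.2.2 ⧸
          (maximalIdeal ((Spec (CommRingCat.of R)).presheaf.stalk (a P))).map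
            ((Ideal.Quotient.mk (RingHom.ker (Cyc.specMap P (a.fiberι η ζ.1) ζ.2.2))).comp
              (a.stalkMap P).hom))).toNat : ℤ)) =
      ((Module.length (W.presheaf.stalk w) (W.presheaf.stalk w ⧸
          (maximalIdeal ((Spec (CommRingCat.of R)).presheaf.stalk (a (ι w)))).map
            ((ι.stalkMap w).hom.comp (a.stalkMap (ι w)).hom))).toNat : ℤ) := by
    intro w P hP
    subst hP
    intro hcp hrP
    obtain ⟨tX, hmap, hreg, -⟩ := hpt w
    have hreg' := hreg hcp
    have hK : (maximalIdeal ((Spec (CommRingCat.of R)).presheaf.stalk (a (ι w)))).map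
        ((ι.stalkMap w).hom.comp (a.stalkMap (ι w)).hom) =
        Ideal.span {(ι.stalkMap w).hom tX} := by
      rw [← Ideal.map_map, hmap, Ideal.map_span, Set.image_singleton]
    rw [hK]
    have hδt : ∀ t : {ξ : W // ξ ⤳ w ∧ ξ ≠ w}, δX (ι t.1) = r + 1 := by
      intro t
      have h1 : δX (ι w) < δX (ι t.1) := (hδW t.1 w t.2.1 t.2.2).1
      have h2 := hdimW t.1
      omega
    have hrW : ∀ (ξW : W) (h : ξW ⤳ w), ξW ≠ w →
        Cyc.specMap w ξW h ((ι.stalkMap w).hom tX) ≠ 0 := by
      intro ξW h hne h0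
      have hmin : RingHom.ker (Cyc.specMap w ξW h) ∈ minimalPrimes (W.presheaf.stalk w) := by
        refine ⟨⟨RingHom.ker_isPrime _, bot_le⟩, ?_⟩
        rintro p ⟨hp, -⟩ hple
        haveI := hp
        obtain ⟨ζ', hζ', hkζ'⟩ := exists_point_of_prime w p
        have h1 : ζ' ⤳ ξW := specializes_of_ker_le w ζ' ξW hζ' h (by rw [hkζ']; exact hple)
        have h2 : ζ' = ξW := by
          by_contra hne'
          have h3 : δX (ι ξW) < δX (ι ζ') := (hδW ζ' ξW h1 hne').1
          have h4 := hdimW ζ'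
          have h5 : δX (ι ξW) = r + 1 := hδt ⟨ξW, h, hne⟩
          omega
        subst h2
        exact le_of_eq hkζ'
      exact Set.disjoint_left.mp (Ideal.disjoint_nonZeroDivisors_of_mem_minimalPrimes hmin)
        (RingHom.mem_ker.2 h0) (mem_nonZeroDivisors_iff_left.2 hreg')
    have hform := local_formula (fun w' => δX (ι w')) hδW r hdimW w hrP
      ((ι.stalkMap w).hom tX) hreg' hrW
    rw [hform]
    have hTW : ∀ t : {ξ : W // ξ ⤳ w ∧ ξ ≠ w}, ∃ ζ : a.fiber η, a.fiberι η ζ = ι t.1 := by
      intro t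
      have hne : a (ι t.1) ≠ IsLocalRing.closedPoint R := fun hcp' => by
        have h1 := hgenW t.1 hcp'
        have h2 := hδt t
        omega
      exact hfib η (ι t.1) (hgenpt _ hne)
    choose g hg using hTW
    have hgδ : ∀ t, δη (g t) = r := by
      intro t
      have h1 := hδXη (g t)
      rw [hg t, hδt t] at h1
      omega
    let Φ : {ξ : W // ξ ⤳ w ∧ ξ ≠ w} →
        {ζ : ↥(a.fiber η) // δη ζ = r ∧ (a.fiberι η ζ) ⤳ ι w} :=
      fun t => ⟨g t, hgδ t, by rw [hg t]; exact t.2.1.map ι.continuous⟩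
    have hΦinj : Function.Injective Φ := by
      intro t t' h
      have h1 : g t = g t' := congrArg Subtype.val h
      have h2 : ι t.1 = ι t'.1 := by rw [← hg t, ← hg t', h1]
      exact Subtype.ext (hιinj h2)
    have hsupp : Function.support
        (fun ζ : {ζ : ↥(a.fiber η) // δη ζ = r ∧ (a.fiberι η ζ) ⤳ ι w} =>
        Cyc.subschemeFun δη r (pullback.snd ι (a.fiberι η)) ζ.1 *
        ((Module.length (X.presheaf.stalk (ι w)) (Cyc.LocQuot (ι w) (a.fiberι η ζ.1) ζ.2.2 ⧸
          (maximalIdeal ((Spec (CommRingCat.of R)).presheaf.stalk (a (ι w)))).map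
            ((Ideal.Quotient.mk (RingHom.ker (Cyc.specMap (ι w) (a.fiberι η ζ.1) ζ.2.2))).comp
              (a.stalkMap (ι w)).hom))).toNat : ℤ)) ⊆ Set.range Φ := by
      intro ζ hζ
      rw [Function.mem_support] at hζ
      have hmem : a.fiberι η ζ.1 ∈ Set.range ⇑ι := by
        by_contra hcon
        apply hζ
        have h0 : Cyc.subschemeFun δη r (pullback.snd ι (a.fiberι η)) ζ.1 = 0 :=
          subschemeFun_eq_zero δη r _ ζ.1 (by rw [Scheme.Pullback.range_snd]; exact hcon)
        rw [h0, zero_mul]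
      obtain ⟨ξW, hξW⟩ := hmem
      have hsp : ξW ⤳ w := hιind.specializes_iff.mp (by rw [hξW]; exact ζ.2.2)
      have hne : ξW ≠ w := by
        intro h
        apply hηs
        rw [← fiberι_mem a η ζ.1, ← hξW, h, hcp]
      refine ⟨⟨ξW, hsp, hne⟩, Subtype.ext ?_⟩
      show g ⟨ξW, hsp, hne⟩ = ζ.1
      apply (a.fiberι η).isEmbedding.injective
      rw [hg, hξW]
    have hsum : (∑ᶠ ζ : {ζ : ↥(a.fiber η) // δη ζ = r ∧ (a.fiberι η ζ) ⤳ ι w},
        Cyc.subschemeFun δη r (pullback.snd ι (a.fiberι η)) ζ.1 *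
        ((Module.length (X.presheaf.stalk (ι w)) (Cyc.LocQuot (ι w) (a.fiberι η ζ.1) ζ.2.2 ⧸
          (maximalIdeal ((Spec (CommRingCat.of R)).presheaf.stalk (a (ι w)))).map
            ((Ideal.Quotient.mk (RingHom.ker (Cyc.specMap (ι w) (a.fiberι η ζ.1) ζ.2.2))).comp
              (a.stalkMap (ι w)).hom))).toNat : ℤ)) =
        ∑ᶠ t : {ξ : W // ξ ⤳ w ∧ ξ ≠ w},
        Cyc.subschemeFun δη r (pullback.snd ι (a.fiberι η)) (Φ t).1 *
        ((Module.length (X.presheaf.stalk (ι w))
          (Cyc.LocQuot (ι w) (a.fiberι η (Φ t).1) (Φ t).2.2 ⧸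
          (maximalIdeal ((Spec (CommRingCat.of R)).presheaf.stalk (a (ι w)))).map
            ((Ideal.Quotient.mk (RingHom.ker
              (Cyc.specMap (ι w) (a.fiberι η (Φ t).1) (Φ t).2.2))).comp
              (a.stalkMap (ι w)).hom))).toNat : ℤ) := by
      rw [← finsum_mem_range (f := fun ζ : {ζ : ↥(a.fiber η) //
          δη ζ = r ∧ (a.fiberι η ζ) ⤳ ι w} =>
        Cyc.subschemeFun δη r (pullback.snd ι (a.fiberι η)) ζ.1 *
        ((Module.length (X.presheaf.stalk (ι w)) (Cyc.LocQuot (ι w) (a.fiberι η ζ.1) ζ.2.2 ⧸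
          (maximalIdeal ((Spec (CommRingCat.of R)).presheaf.stalk (a (ι w)))).map
            ((Ideal.Quotient.mk (RingHom.ker (Cyc.specMap (ι w) (a.fiberι η ζ.1) ζ.2.2))).comp
              (a.stalkMap (ι w)).hom))).toNat : ℤ)) hΦinj,
        finsum_mem_def, Set.indicator_eq_self.mpr hsupp]
    rw [hsum]
    refine finsum_congr (fun t => ?_)
    congr 1
    · -- the multiplicity in the generic fibre
      have hmem : g t ∈ Set.range ⇑(pullback.snd ι (a.fiberι η)) := by
        rw [Scheme.Pullback.range_snd]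
        exact ⟨t.1, (hg t).symm⟩
      obtain ⟨z, hz⟩ := hmem
      have hfst : pullback.fst ι (a.fiberι η) z = t.1 := by
        apply hιinj
        rw [← hg t, ← hz]
        exact hcond η z
      show Cyc.subschemeFun δη r (pullback.snd ι (a.fiberι η)) (g t) = _
      rw [← hz, subschemeFun_eq_of_injective δη r _ (hsndinj η) z (by rw [hz]; exact hgδ t),
        hlenη z, hfst]
    · -- the order along the specialization
      have himm : ∀ z : W, t.1 ⤳ z → z ⤳ w → z = t.1 ∨ z = w := by
        intro z h1 h2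
        by_contra hcon
        rw [not_or] at hcon
        have h3 : δX (ι z) < δX (ι t.1) := (hδW t.1 z h1 (Ne.symm hcon.1)).1
        have h4 : δX (ι w) < δX (ι z) := (hδW z w h2 hcon.2).1
        have h5 := hδt t
        omega
      rw [ordAt_specMap_eq w t.1 t.2.1 himm _ (hrW t.1 t.2.1 t.2.2)]
      congr 1
      congr 1
      rw [← ord_closedImmersion ι w t.1 t.2.1 (a.fiberι η (g t)) (hg t).symm (Φ t).2.2 tX]
      have hJ : (maximalIdeal ((Spec (CommRingCat.of R)).presheaf.stalk (a (ι w)))).map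
          ((Ideal.Quotient.mk (RingHom.ker
            (Cyc.specMap (ι w) (a.fiberι η (Φ t).1) (Φ t).2.2))).comp (a.stalkMap (ι w)).hom) =
          Ideal.span {Ideal.Quotient.mk (RingHom.ker
            (Cyc.specMap (ι w) (a.fiberι η (Φ t).1) (Φ t).2.2)) tX} := by
        rw [← Ideal.map_map, hmap, Ideal.map_span, Set.image_singleton]
      rw [hJ]
      unfold Ring.ord
      exact Module.length_eq_of_surjective
        (S := X.presheaf.stalk (ι w))
        (R := Cyc.LocQuot (ι w) (a.fiberι η (g t)) (Φ t).2.2)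
        Ideal.Quotient.mk_surjective
  funext x
  by_cases hx : δs x = r
  swap
  · unfold Cyc.spFun Cyc.subschemeFun
    rw [if_neg hx, if_neg hx]
  by_cases hz : ∃ z : ↥(pullback ι (a.fiberι (IsLocalRing.closedPoint R))),
      pullback.snd ι (a.fiberι (IsLocalRing.closedPoint R)) z = x
  · obtain ⟨z, rfl⟩ := hz
    rw [subschemeFun_eq_of_injective δs r _ (hsndinj _) z hx, hlens z]
    unfold Cyc.spFun
    rw [if_pos hx]
    exact key (pullback.fst ι (a.fiberι (IsLocalRing.closedPoint R)) z) _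
      (hcond _ z) (fiberι_mem a _ _) (by rw [hδXs]; exact hx)
  · have hPn : a.fiberι (IsLocalRing.closedPoint R) x ∉ Set.range ⇑ι := by
      intro hmem
      apply hz
      have h1 : x ∈ Set.range ⇑(pullback.snd ι (a.fiberι (IsLocalRing.closedPoint R))) := by
        rw [Scheme.Pullback.range_snd]
        exact hmem
      exact h1
    rw [subschemeFun_eq_zero δs r _ x (fun ⟨z, hz'⟩ => hz ⟨z, hz'⟩)]
    unfold Cyc.spFun
    rw [if_pos hx]
    refine finsum_eq_zero_of_forall_eq_zero (fun ζ => ?_)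
    have h0 : Cyc.subschemeFun δη r (pullback.snd ι (a.fiberι η)) ζ.1 = 0 := by
      apply subschemeFun_eq_zero
      rw [Scheme.Pullback.range_snd]
      intro hmem
      exact hPn (hιcl.stableUnderSpecialization ζ.2.2 hmem)
    rw [h0, zero_mul]

end Main

end Groth.Agent.Helper7.Spz
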