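import Mathlib
import Groth.Prelude.Def_C1
import Groth.Agent.Lib.Helper4.PropDim1
import Groth.Agent.Lib.Helper7.Spz.Sub
import Groth.Agent.Lib.Helper7.DivFin.SecGen

set_option linter.style.haveILetI false
set_option linter.unusedVariables false
set_option linter.unusedSectionVars false
set_option autoImplicit false
set_option backward.isDefEq.respectTransparency.types false
set_option synthInstance.maxHeartbeats 400000
set_option maxHeartbeats 1600000

namespace Groth.Agent.Helper7.Spz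

open CategoryTheory CategoryTheory.Limits AlgebraicGeometry IsLocalRing TopologicalSpace Opposite
open Groth.Agent.Helper1.QcCech Groth.Agent.Helper1.LGen Groth.Agent.Lead.RkSch
open Groth.Agent.Lead.SecOrd Groth.Agent.Helper7.CycLim Groth.Agent.Helper7.DivFin
open Groth.Agent.Helper7.CycPull Groth.Agent.Helper7.KL
open Groth.Agent.Lib.Helper4.FibDim1 Groth.Agent.Lib.Helper4.Aff2 Groth.Agent.Helper3.FibStalk

universe u

/-! helper7: general lemmas for the compatibility of specialization with flat pullback -/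

/-! helper7: general lemmas for the compatibility of specialization with flat pullback -/

section Key

variable {X Y : Scheme.{u}}

/-- the key step of the flat pullback formula, with only the hypotheses that are used -/
theorem flat_local_key' [IsLocallyNoetherian X] [IsLocallyNoetherian Y] (δX : X → ℤ)
    (hδX : Cyc.IsDimFun X δX) (f : X ⟶ Y) [Flat f] (x : X) (ξ : Y) (hsp : ξ ⤳ f x)
    (hH : ∀ ζ : X, ζ ⤳ x → ζ ≠ x → ξ ⤳ f ζ → f ζ = ξ ∧ δX ζ = δX x + 1)
    (c : Y.presheaf.stalk (f x)) (hc : Cyc.specMap (f x) ξ hsp c ≠ 0) :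
    Finite {ζ : X // ζ ⤳ x ∧ ζ ≠ x ∧ f ζ = ξ} ∧
    ((Ring.ord (Cyc.LocQuot (f x) ξ hsp)
        (Ideal.Quotient.mk (RingHom.ker (Cyc.specMap (f x) ξ hsp)) c)).toNat : ℤ) *
      ((Module.length (X.presheaf.stalk x) (X.presheaf.stalk x ⧸
        Ideal.map (f.stalkMap x).hom (maximalIdeal (Y.presheaf.stalk (f x))))).toNat : ℤ) =
      ∑ᶠ t : {ζ : X // ζ ⤳ x ∧ ζ ≠ x ∧ f ζ = ξ},
        ((Module.length (X.presheaf.stalk t.1) (X.presheaf.stalk t.1 ⧸
          Ideal.map (f.stalkMap t.1).hom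
            (maximalIdeal (Y.presheaf.stalk (f t.1))))).toNat : ℤ) *
          Cyc.ordAt x t.1 t.2.1 (Cyc.specMap x t.1 t.2.1 ((f.stalkMap x).hom c)) := by
  have hflat : (f.stalkMap x).hom.Flat := Flat.stalkMap f x
  obtain ⟨I, hIdef⟩ : ∃ I : Ideal (X.presheaf.stalk x),
      I = (RingHom.ker (Cyc.specMap (f x) ξ hsp)).map (f.stalkMap x).hom := ⟨_, rfl⟩
  have hIm : I ≤ maximalIdeal (X.presheaf.stalk x) := by
    rw [hIdef]
    refine le_trans (Ideal.map_mono
      (IsLocalRing.le_maximalIdeal (RingHom.ker_isPrime (Cyc.specMap (f x) ξ hsp)).ne_top)) ?_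
    exact ((IsLocalRing.local_hom_TFAE (f.stalkMap x).hom).out 0 2 rfl rfl).mp inferInstance
  have hK1 : ∀ (ζ : X) (h : ζ ⤳ x), I ≤ RingHom.ker (Cyc.specMap x ζ h) → ξ ⤳ f ζ := by
    intro ζ h hle
    have h' : f ζ ⤳ f x := h.map f.continuous
    refine specializes_of_ker_le (f x) ξ (f ζ) hsp h' ?_
    rw [← comap_ker_specMap_stalkMap f x ζ h h', ← Ideal.map_le_iff_le_comap, ← hIdef]
    exact hle
  have hK2 : ∀ (ζ : X) (h : ζ ⤳ x), f ζ = ξ → I ≤ RingHom.ker (Cyc.specMap x ζ h) := by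
    intro ζ h e
    have h' : f ζ ⤳ f x := h.map f.continuous
    rw [hIdef, Ideal.map_le_iff_le_comap, comap_ker_specMap_stalkMap f x ζ h h']
    exact le_of_eq (ker_specMap_congr (f x) ξ (f ζ) e.symm hsp h')
  have hT : ∀ (ζ : X) (h : ζ ⤳ x), ζ ≠ x → I ≤ RingHom.ker (Cyc.specMap x ζ h) →
      δX ζ = δX x + 1 := fun ζ h hne hle => (hH ζ h hne (hK1 ζ h hle)).2
  have hcp : c ∉ RingHom.ker (Cyc.specMap (f x) ξ hsp) :=
    fun hmem => hc (RingHom.mem_ker.1 hmem)
  have hreg : ∀ z : X.presheaf.stalk x, (f.stalkMap x).hom c * z ∈ I → z ∈ I := by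
    intro z hz
    letI : Algebra (Y.presheaf.stalk (f x)) (X.presheaf.stalk x) :=
      (f.stalkMap x).hom.toAlgebra
    haveI : Module.Flat (Y.presheaf.stalk (f x)) (X.presheaf.stalk x) := hflat
    rw [hIdef] at hz ⊢
    exact reg_quot_of_flat (RingHom.ker (Cyc.specMap (f x) ξ hsp)) c
      (fun b hb => ((RingHom.ker_isPrime (Cyc.specMap (f x) ξ hsp)).mem_or_mem hb).resolve_left
        hcp) z hz
  have hr : ∀ (ζ : X) (h : ζ ⤳ x), ζ ≠ x → I ≤ RingHom.ker (Cyc.specMap x ζ h) →
      Cyc.specMap x ζ h ((f.stalkMap x).hom c) ≠ 0 := by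
    intro ζ h hne hle
    have e := (hH ζ h hne (hK1 ζ h hle)).1
    rw [← pulled_specMap f x ζ h ξ e hsp c]
    exact (map_ne_zero (f.residueFieldMap ζ).hom).2
      ((map_ne_zero (Y.residueFieldCongr e.symm).hom.hom).2 hc)
  have hk6gen : ∀ (ζ : X) (h : ζ ⤳ x), f ζ = ξ → I.map (X.presheaf.stalkSpecializes h).hom =
      (maximalIdeal (Y.presheaf.stalk (f ζ))).map (f.stalkMap ζ).hom := by
    intro ζ h e1
    have h' : f ζ ⤳ f x := h.map f.continuous
    rw [hIdef, ker_specMap_congr (f x) ξ (f ζ) e1.symm hsp h']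
    exact map_map_ker_eq f x ζ h h'
  obtain ⟨hfinI, hform⟩ := local_formula_rel δX hδX x I hIm ((f.stalkMap x).hom c) hreg hT hr
  let e : {ζ : X // ζ ⤳ x ∧ ζ ≠ x ∧ ∀ h : ζ ⤳ x, I ≤ RingHom.ker (Cyc.specMap x ζ h)} →
      {ζ : X // ζ ⤳ x ∧ ζ ≠ x ∧ f ζ = ξ} := fun t =>
    ⟨t.1, t.2.1, t.2.2.1, (hH t.1 t.2.1 t.2.2.1 (hK1 t.1 t.2.1 (t.2.2.2 t.2.1))).1⟩
  have heinj : Function.Injective e := by
    intro t t' h
    have h1 : (e t).1 = (e t').1 := by rw [h]
    exact Subtype.ext h1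
  have hesurj : Function.Surjective e := by
    intro t
    exact ⟨⟨t.1, t.2.1, t.2.2.1, fun h => hK2 t.1 h t.2.2.2⟩, Subtype.ext rfl⟩
  haveI := hfinI
  refine ⟨Finite.of_surjective e hesurj, ?_⟩
  have hsup : I ⊔ Ideal.span {(f.stalkMap x).hom c} =
      (RingHom.ker (Cyc.specMap (f x) ξ hsp) ⊔ Ideal.span {c}).map (f.stalkMap x).hom := by
    rw [Ideal.map_sup, Ideal.map_span, Set.image_singleton, hIdef]
  have hlen : Module.length (X.presheaf.stalk x)
      (X.presheaf.stalk x ⧸ (I ⊔ Ideal.span {(f.stalkMap x).hom c})) =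
      Ring.ord (Cyc.LocQuot (f x) ξ hsp)
          (Ideal.Quotient.mk (RingHom.ker (Cyc.specMap (f x) ξ hsp)) c) *
        Module.length (X.presheaf.stalk x) (X.presheaf.stalk x ⧸
          Ideal.map (f.stalkMap x).hom (maximalIdeal (Y.presheaf.stalk (f x)))) := by
    rw [hsup, length_quot_map_comp (f.stalkMap x).hom hflat, length_quot_sup_span]
  rw [hlen, ENat.toNat_mul] at hform
  push_cast at hform
  rw [hform]
  refine finsum_eq_of_bijective e ⟨heinj, hesurj⟩ (fun t => ?_)
  have hk6 : I.map (X.presheaf.stalkSpecializes t.2.1).hom =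
      (maximalIdeal (Y.presheaf.stalk (f t.1))).map (f.stalkMap t.1).hom :=
    hk6gen t.1 t.2.1 (e t).2.2.2
  rw [hk6]

/-- a generator of the extension of the maximal ideal of the base does not vanish at the
generizations lying in other fibres -/
theorem specMap_ne_zero_of_fibre_ne (b : X ⟶ Y) (x ξ : X) (h : ξ ⤳ x) (hne : b ξ ≠ b x)
    (c : X.presheaf.stalk x)
    (hc : (maximalIdeal (Y.presheaf.stalk (b x))).map (b.stalkMap x).hom = Ideal.span {c}) :
    Cyc.specMap x ξ h c ≠ 0 := by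
  intro h0
  apply hne
  have h' : b ξ ⤳ b x := h.map b.continuous
  apply (ker_specMap_eq_max_iff (b x) (b ξ) h').1
  rw [← comap_ker_specMap_stalkMap b x ξ h h']
  have h1 : maximalIdeal (Y.presheaf.stalk (b x)) ≤
      (RingHom.ker (Cyc.specMap x ξ h)).comap (b.stalkMap x).hom := by
    rw [← Ideal.map_le_iff_le_comap, hc, Ideal.span_le, Set.singleton_subset_iff]
    exact RingHom.mem_ker.2 h0
  exact ((maximalIdeal.isMaximal _).eq_of_le
    (Ideal.comap_ne_top _ (RingHom.ker_isPrime (Cyc.specMap x ξ h)).ne_top) h1).symm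

end Key

section Alg

theorem length_quot_map_of_surj {A B : Type u} [CommRing A] [CommRing B] (ψ : A →+* B)
    (hψ : Function.Surjective ψ) (I : Ideal A) (hI : RingHom.ker ψ ≤ I) :
    Module.length B (B ⧸ I.map ψ) = Module.length A (A ⧸ I) := by
  have hcomap : (I.map ψ).comap ψ = I := by
    rw [Ideal.comap_map_of_surjective ψ hψ, ← RingHom.ker_eq_comap_bot]
    exact sup_eq_left.2 hI
  let e0 : A ⧸ I →+* B ⧸ I.map ψ := Ideal.quotientMap (I.map ψ) ψ Ideal.le_comap_map
  have hinj : Function.Injective e0 := Ideal.quotientMap_injective' (le_of_eq hcomap)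
  have hsurj : Function.Surjective e0 := Ideal.quotientMap_surjective hψ
  have h1 := length_self_of_ringEquiv (RingEquiv.ofBijective e0 ⟨hinj, hsurj⟩)
  rw [Module.length_eq_of_surjective (S := B) (R := B ⧸ I.map ψ) (M := B ⧸ I.map ψ)
      Ideal.Quotient.mk_surjective,
    Module.length_eq_of_surjective (S := A) (R := A ⧸ I) (M := A ⧸ I)
      Ideal.Quotient.mk_surjective]
  exact h1.symm

theorem map_maximalIdeal_of_surjective {A B : Type u} [CommRing A] [CommRing B] [IsLocalRing A]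
    [IsLocalRing B] (φ : A →+* B) (hφ : Function.Surjective φ) :
    (maximalIdeal A).map φ = maximalIdeal B := by
  have hk : RingHom.ker φ ≤ maximalIdeal A :=
    IsLocalRing.le_maximalIdeal (RingHom.ker_ne_top φ)
  haveI := Ideal.IsMaximal.map_of_surjective_of_ker_le hφ hk
  exact IsLocalRing.eq_maximalIdeal inferInstance

end Alg

section Fib

variable {X' X S : Scheme.{u}}

/-- the morphism of fibres induced by a morphism over the base -/
noncomputable abbrev fibMap (f : X' ⟶ X) (b : X ⟶ S) (y : S) : (f ≫ b).fiber y ⟶ b.fiber y :=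
  pullback.map (f ≫ b) (S.fromSpecResidueField y) b (S.fromSpecResidueField y) f (𝟙 _) (𝟙 _)
    (Category.comp_id _) ((Category.comp_id _).trans (Category.id_comp _).symm)

theorem fibMap_fiberι (f : X' ⟶ X) (b : X ⟶ S) (y : S) :
    fibMap f b y ≫ b.fiberι y = (f ≫ b).fiberι y ≫ f :=
  pullback.lift_fst _ _ _

theorem fibMap_fiberι_apply (f : X' ⟶ X) (b : X ⟶ S) (y : S) (z' : (f ≫ b).fiber y) :
    b.fiberι y (fibMap f b y z') = f ((f ≫ b).fiberι y z') := by
  show (fibMap f b y ≫ b.fiberι y) z' = ((f ≫ b).fiberι y ≫ f) z'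
  rw [fibMap_fiberι]

theorem map_maximalIdeal_congr {Z : Scheme.{u}} (G1 G2 : Z ⟶ X) (h : G1 = G2) (z : Z) :
    (maximalIdeal (X.presheaf.stalk (G1 z))).map (G1.stalkMap z).hom =
      (maximalIdeal (X.presheaf.stalk (G2 z))).map (G2.stalkMap z).hom := by
  subst h
  rfl

theorem map_maximalIdeal_comp_le (f : X' ⟶ X) (b : X ⟶ S) (P' : X') :
    Ideal.map ((f ≫ b).stalkMap P').hom (maximalIdeal (S.presheaf.stalk ((f ≫ b) P'))) ≤
      Ideal.map (f.stalkMap P').hom (maximalIdeal (X.presheaf.stalk (f P'))) := by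
  rw [Ideal.map_le_iff_le_comap]
  intro c hc
  rw [Ideal.mem_comap]
  have h1 : ((f ≫ b).stalkMap P').hom c = (f.stalkMap P').hom ((b.stalkMap (f P')).hom c) := by
    rw [stalkMap_comp_hom]
    rfl
  rw [h1]
  apply Ideal.mem_map_of_mem
  exact ((IsLocalRing.local_hom_TFAE (b.stalkMap (f P')).hom).out 0 2 rfl rfl).mp inferInstance
    (Ideal.mem_map_of_mem _ hc)

/-- the multiplicity of the fibre of the induced morphism of fibres is that of the morphism -/
theorem fibre_mult (f : X' ⟶ X) (b : X ⟶ S) (y : S) (z' : (f ≫ b).fiber y) :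
    Module.length (((f ≫ b).fiber y).presheaf.stalk z')
      (((f ≫ b).fiber y).presheaf.stalk z' ⧸
        Ideal.map ((fibMap f b y).stalkMap z').hom
          (maximalIdeal ((b.fiber y).presheaf.stalk (fibMap f b y z')))) =
    Module.length (X'.presheaf.stalk ((f ≫ b).fiberι y z'))
      (X'.presheaf.stalk ((f ≫ b).fiberι y z') ⧸
        Ideal.map (f.stalkMap ((f ≫ b).fiberι y z')).hom
          (maximalIdeal (X.presheaf.stalk (f ((f ≫ b).fiberι y z'))))) := by
  have hψ' : Function.Surjective (((f ≫ b).fiberι y).stalkMap z').hom :=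
    ((f ≫ b).fiberι y).stalkMap_surjective z'
  have hkψ' := ker_stalkMap_fiberι (f ≫ b) y z'
  -- step A
  have hA1 : maximalIdeal ((b.fiber y).presheaf.stalk (fibMap f b y z')) =
      (maximalIdeal (X.presheaf.stalk (b.fiberι y (fibMap f b y z')))).map
        ((b.fiberι y).stalkMap (fibMap f b y z')).hom :=
    (map_maximalIdeal_of_surjective _ ((b.fiberι y).stalkMap_surjective _)).symm
  have hA2 : Ideal.map ((fibMap f b y).stalkMap z').hom
      (maximalIdeal ((b.fiber y).presheaf.stalk (fibMap f b y z'))) =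
      (maximalIdeal (X.presheaf.stalk ((fibMap f b y ≫ b.fiberι y) z'))).map
        ((fibMap f b y ≫ b.fiberι y).stalkMap z').hom := by
    rw [hA1, Ideal.map_map, ← stalkMap_comp_hom]
    rfl
  have hA3 := map_maximalIdeal_congr (fibMap f b y ≫ b.fiberι y) ((f ≫ b).fiberι y ≫ f)
    (fibMap_fiberι f b y) z'
  have hA4 : (maximalIdeal (X.presheaf.stalk (((f ≫ b).fiberι y ≫ f) z'))).map
      (((f ≫ b).fiberι y ≫ f).stalkMap z').hom =
      ((maximalIdeal (X.presheaf.stalk (f ((f ≫ b).fiberι y z')))).map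
        (f.stalkMap ((f ≫ b).fiberι y z')).hom).map (((f ≫ b).fiberι y).stalkMap z').hom := by
    rw [Ideal.map_map, ← stalkMap_comp_hom]
    rfl
  rw [hA2, hA3, hA4]
  refine length_quot_map_of_surj _ hψ' _ ?_
  rw [hkψ']
  exact map_maximalIdeal_comp_le f b _

/-- the points of the support of a cycle on a fibre which specialize to a given point of the
total space are finite in number -/
theorem finite_support_generizations [IsAffine S] (b : X ⟶ S) (y : S)
    (α : AlgebraicCycle (b.fiber y) ℤ) (P : X) :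
    {ζ : b.fiber y | α ζ ≠ 0 ∧ b.fiberι y ζ ⤳ P}.Finite := by
  obtain ⟨U, hU, hPU⟩ := exists_affine P
  haveI : IsAffineHom (b.fiberι y) :=
    MorphismProperty.pullback_fst (P := @IsAffineHom) _ _ inferInstance
  have hcomp : IsCompact (((b.fiberι y) ⁻¹ᵁ U : (b.fiber y).Opens) : Set (b.fiber y)) :=
    (hU.preimage (b.fiberι y)).isCompact
  have hlf : LocallyFiniteSupport (α : b.fiber y → ℤ) :=
    fun z => α.supportLocallyFiniteWithinDomain z (Set.mem_univ z)
  refine (hlf.finite_inter_support_of_isCompact hcomp).subset ?_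
  rintro ζ ⟨h1, h2⟩
  exact ⟨h2.mem_open U.2 hPU, h1⟩

end Fib

section Delta

variable (R : Type u) [CommRing R] [IsDomain R] [IsDiscreteValuationRing R]

theorem delta_fibre {X : Scheme.{u}} (a : X ⟶ Spec (CommRingCat.of R)) [LocallyOfFiniteType a]
    (y : Spec (CommRingCat.of R)) (δy : ↥(a.fiber y) → ℤ)
    (hδy : Cyc.DeltaCompat (a.fiberToSpecResidueField y) δy (fun _ => 0)) (z : a.fiber y) :
    δS R (a (a.fiberι y z)) + (tr a (a.fiberι y z) : ℤ) = δS R y + δy z := by
  have h1 := delta_eq_of_deltaCompat (a.fiberToSpecResidueField y) δy (fun _ => 0) hδy z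
  rw [tr_fiber] at h1
  rw [fiberι_mem a y z, h1]
  ring

theorem pullFun_apply {X Y : Scheme.{u}} (f : X ⟶ Y) (δX : X → ℤ) (δY : Y → ℤ) (r : ℤ)
    (α : Y → ℤ) (x : X) :
    Cyc.pullFun f δX δY r α x = if δX x = δY (f x) + r then
      α (f x) * ((Module.length (X.presheaf.stalk x)
        (X.presheaf.stalk x ⧸ Ideal.map (f.stalkMap x).hom
          (IsLocalRing.maximalIdeal (Y.presheaf.stalk (f x))))).toNat : ℤ)
    else 0 := rfl

theorem spFun_apply {X S : Scheme.{u}} (f : X ⟶ S) (η s : S) (δη : ↥(f.fiber η) → ℤ)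
    (δs : ↥(f.fiber s) → ℤ) (r : ℤ) (α : ↥(f.fiber η) → ℤ) (x : ↥(f.fiber s)) :
    Cyc.spFun f η s δη δs r α x = if δs x = r then
    ∑ᶠ ζ : {ζ : ↥(f.fiber η) // δη ζ = r ∧ (f.fiberι η ζ) ⤳ (f.fiberι s x)},
      α ζ.1 * ((Module.length (X.presheaf.stalk (f.fiberι s x))
        (Cyc.LocQuot (f.fiberι s x) (f.fiberι η ζ.1) ζ.2.2 ⧸
          (IsLocalRing.maximalIdeal (S.presheaf.stalk (f (f.fiberι s x)))).map
            ((Ideal.Quotient.mk (RingHom.ker
              (Cyc.specMap (f.fiberι s x) (f.fiberι η ζ.1) ζ.2.2))).comp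
              (f.stalkMap (f.fiberι s x)).hom))).toNat : ℤ)
    else 0 := rfl

end Delta

end Groth.Agent.Helper7.Spz
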