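import Mathlib
import Groth.Prelude.Def_C1
import Groth.Agent.Lib.Helper7.Spz.PullGen
import Groth.Agent.Lib.Helper7.KL.FlatGlobal

set_option linter.style.haveILetI false
set_option linter.unusedVariables false
set_option linter.unusedSectionVars false
set_option autoImplicit false
set_option backward.isDefEq.respectTransparency.types false
set_option synthInstance.maxHeartbeats 400000
set_option maxHeartbeats 1600000

namespace Groth.Agent.Helper7.Spz

open CategoryTheory CategoryTheory.Limits AlgebraicGeometry IsLocalRing TopologicalSpace Opposite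
open Groth.Agent.Helper1.QcCech Groth.Agent.Helper1.LGen Groth.Agent.Lead.RkSch
open Groth.Agent.Lead.SecOrd Groth.Agent.Helper7.CycLim Groth.Agent.Helper7.DivFin
open Groth.Agent.Helper7.CycPull Groth.Agent.Helper7.KL
open Groth.Agent.Lib.Helper4.FibDim1 Groth.Agent.Lib.Helper4.Aff2 Groth.Agent.Helper3.FibStalk

universe u

/-! helper7: specialization of cycles over a DVR commutes with flat pullback (spz_pull) -/

/-! helper7: specialization of cycles over a DVR commutes with flat pullback (spz_pull) -/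

section Main

variable (R : Type u) [CommRing R] [IsDomain R] [IsDiscreteValuationRing R]

theorem spz_pull (η : Spec (CommRingCat.of R)) (hηs : η ≠ IsLocalRing.closedPoint R)
    (X' X : Scheme.{u}) (b : X ⟶ Spec (CommRingCat.of R)) [LocallyOfFiniteType b]
    (f : X' ⟶ X) [Flat f] [LocallyOfFiniteType f] (e : ℕ) (he : Cyc.HasRelDim f e)
    (δX'η : ↥((f ≫ b).fiber η) → ℤ)
    (δX's : ↥((f ≫ b).fiber (IsLocalRing.closedPoint R)) → ℤ)
    (δXη : ↥(b.fiber η) → ℤ) (δXs : ↥(b.fiber (IsLocalRing.closedPoint R)) → ℤ)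
    (h1 : Cyc.DeltaCompat ((f ≫ b).fiberToSpecResidueField η) δX'η (fun _ => 0))
    (h2 : Cyc.DeltaCompat ((f ≫ b).fiberToSpecResidueField (IsLocalRing.closedPoint R)) δX's
      (fun _ => 0))
    (h3 : Cyc.DeltaCompat (b.fiberToSpecResidueField η) δXη (fun _ => 0))
    (h4 : Cyc.DeltaCompat (b.fiberToSpecResidueField (IsLocalRing.closedPoint R)) δXs
      (fun _ => 0))
    (r : ℤ) (α : AlgebraicCycle (b.fiber η) ℤ) :
    Cyc.spFun (f ≫ b) η (IsLocalRing.closedPoint R) δX'η δX's (r + e)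
      (Cyc.pullFun (fibMap f b η) δX'η δXη e ⇑α) =
    Cyc.pullFun (fibMap f b (IsLocalRing.closedPoint R)) δX's δXs e
      (Cyc.spFun b η (IsLocalRing.closedPoint R) δXη δXs r ⇑α) := by
  have hS := isSetup_spec_dvr R
  haveI : IsLocallyNoetherian (Spec (CommRingCat.of R)) := hS.1
  haveI : IsLocallyNoetherian X := LocallyOfFiniteType.isLocallyNoetherian b
  haveI : IsLocallyNoetherian X' := LocallyOfFiniteType.isLocallyNoetherian f
  haveI : LocallyOfFiniteType (f ≫ b) := inferInstance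
  obtain ⟨δX, hδXdef⟩ : ∃ δX : X → ℤ, ∀ z, δX z = δS R (b z) + (tr b z : ℤ) :=
    ⟨fun z => δS R (b z) + (tr b z : ℤ), fun z => rfl⟩
  obtain ⟨δX', hδX'def⟩ : ∃ δX' : X' → ℤ,
      ∀ z, δX' z = δS R ((f ≫ b) z) + (tr (f ≫ b) z : ℤ) :=
    ⟨fun z => δS R ((f ≫ b) z) + (tr (f ≫ b) z : ℤ), fun z => rfl⟩
  have hδX : Cyc.IsDimFun X δX := Groth.Agent.S9684.result b (δS R) hS δX
    (fun z => ⟨tr b z, tr_spec b z, hδXdef z⟩)
  have hδX' : Cyc.IsDimFun X' δX' := Groth.Agent.S9684.result (f ≫ b) (δS R) hS δX'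
    (fun z => ⟨tr (f ≫ b) z, tr_spec (f ≫ b) z, hδX'def z⟩)
  have hrel : ∀ z : X', δX' z = δX (f z) + (tr f z : ℤ) := by
    intro z
    rw [hδX'def, hδXdef, Groth.Agent.Lib.Helper4.PropDim1.tr_comp f b z]
    have h5 : (f ≫ b) z = b (f z) := rfl
    rw [h5]
    push_cast
    ring
  have hle : ∀ z : X', δX' z ≤ δX (f z) + (e : ℤ) := by
    intro z
    have h6 : (tr f z : ℤ) ≤ (e : ℤ) := by exact_mod_cast tr_le_of_hasRelDim f e he z
    rw [hrel z]
    omega
  have hX'η : ∀ ζ' : (f ≫ b).fiber η, δX' ((f ≫ b).fiberι η ζ') = δX'η ζ' + 1 := by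
    intro ζ'
    have h5 := delta_fibre R (f ≫ b) η δX'η h1 ζ'
    rw [hδX'def, h5, δS_of_ne R η hηs]
    ring
  have hX's : ∀ x' : (f ≫ b).fiber (IsLocalRing.closedPoint R),
      δX' ((f ≫ b).fiberι (IsLocalRing.closedPoint R) x') = δX's x' := by
    intro x'
    have h5 := delta_fibre R (f ≫ b) (IsLocalRing.closedPoint R) δX's h2 x'
    rw [hδX'def, h5, δS_closed]
    ring
  have hXη : ∀ ζ : b.fiber η, δX (b.fiberι η ζ) = δXη ζ + 1 := by
    intro ζ
    have h5 := delta_fibre R b η δXη h3 ζ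
    rw [hδXdef, h5, δS_of_ne R η hηs]
    ring
  have hXs : ∀ x : b.fiber (IsLocalRing.closedPoint R),
      δX (b.fiberι (IsLocalRing.closedPoint R) x) = δXs x := by
    intro x
    have h5 := delta_fibre R b (IsLocalRing.closedPoint R) δXs h4 x
    rw [hδXdef, h5, δS_closed]
    ring
  have hfibX' : ∀ (y : Spec (CommRingCat.of R)) (P' : X'), (f ≫ b) P' = y →
      ∃ ζ' : (f ≫ b).fiber y, (f ≫ b).fiberι y ζ' = P' := by
    intro y P' hP'
    have h5 : P' ∈ Set.range ((f ≫ b).fiberι y) := by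
      rw [(f ≫ b).range_fiberι]
      exact hP'
    exact h5
  -- the main computation at a point of the special fibre
  have key : ∀ (P' : X') (Px : X) (hPx : f P' = Px),
      (f ≫ b) P' = IsLocalRing.closedPoint R → δX' P' = r + (e : ℤ) → δX Px = r →
      (∑ᶠ ζ' : {ζ' : ↥((f ≫ b).fiber η) // δX'η ζ' = r + (e : ℤ) ∧
          ((f ≫ b).fiberι η ζ') ⤳ P'},
        Cyc.pullFun (fibMap f b η) δX'η δXη e ⇑α ζ'.1 *
        ((Module.length (X'.presheaf.stalk P')
          (Cyc.LocQuot P' ((f ≫ b).fiberι η ζ'.1) ζ'.2.2 ⧸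
          (maximalIdeal ((Spec (CommRingCat.of R)).presheaf.stalk ((f ≫ b) P'))).map
            ((Ideal.Quotient.mk (RingHom.ker
              (Cyc.specMap P' ((f ≫ b).fiberι η ζ'.1) ζ'.2.2))).comp
              ((f ≫ b).stalkMap P').hom))).toNat : ℤ)) =
      (∑ᶠ ζ : {ζ : ↥(b.fiber η) // δXη ζ = r ∧ (b.fiberι η ζ) ⤳ Px},
        α ζ.1 * ((Module.length (X.presheaf.stalk Px)
          (Cyc.LocQuot Px (b.fiberι η ζ.1) ζ.2.2 ⧸
          (maximalIdeal ((Spec (CommRingCat.of R)).presheaf.stalk (b Px))).map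
            ((Ideal.Quotient.mk (RingHom.ker (Cyc.specMap Px (b.fiberι η ζ.1) ζ.2.2))).comp
              (b.stalkMap Px).hom))).toNat : ℤ)) *
      ((Module.length (X'.presheaf.stalk P') (X'.presheaf.stalk P' ⧸
        Ideal.map (f.stalkMap P').hom
          (maximalIdeal (X.presheaf.stalk (f P'))))).toNat : ℤ) := by
    intro P' Px hPx
    subst hPx
    intro hcp' hdP' hdP
    have hcpX : b (f P') = IsLocalRing.closedPoint R := hcp'
    obtain ⟨φ, t, hmax, -, -⟩ := exists_gen_maximalIdeal_stalk R (b (f P'))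
    obtain ⟨tX, htX⟩ : ∃ tX : X.presheaf.stalk (f P'), tX = (b.stalkMap (f P')).hom (φ t) :=
      ⟨_, rfl⟩
    have hmapX : (maximalIdeal ((Spec (CommRingCat.of R)).presheaf.stalk (b (f P')))).map
        (b.stalkMap (f P')).hom = Ideal.span {tX} := by
      rw [hmax, Ideal.map_span, Set.image_singleton, htX]
    have hmapX' : (maximalIdeal ((Spec (CommRingCat.of R)).presheaf.stalk ((f ≫ b) P'))).map
        ((f ≫ b).stalkMap P').hom = Ideal.span {(f.stalkMap P').hom tX} := by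
      have h5 : (maximalIdeal ((Spec (CommRingCat.of R)).presheaf.stalk (b (f P')))).map
          ((f.stalkMap P').hom.comp (b.stalkMap (f P')).hom) =
          Ideal.span {(f.stalkMap P').hom tX} := by
        rw [← Ideal.map_map, hmapX, Ideal.map_span, Set.image_singleton]
      rw [← stalkMap_comp_hom] at h5
      exact h5
    have hnzX' : ∀ (Q' : X') (h : Q' ⤳ P'), (f ≫ b) Q' ≠ (f ≫ b) P' →
        Cyc.specMap P' Q' h ((f.stalkMap P').hom tX) ≠ 0 :=
      fun Q' h hne => specMap_ne_zero_of_fibre_ne (f ≫ b) P' Q' h hne _ hmapX'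
    -- the generizations of `P'` over a given point of the generic fibre of `X`
    have hHgen : ∀ ζ : {ζ : ↥(b.fiber η) // δXη ζ = r ∧ (b.fiberι η ζ) ⤳ f P'},
        ∀ ζ'' : X', ζ'' ⤳ P' → ζ'' ≠ P' → b.fiberι η ζ.1 ⤳ f ζ'' →
        f ζ'' = b.fiberι η ζ.1 ∧ δX' ζ'' = δX' P' + 1 := by
      intro ζ ζ'' hsp hne hQ
      have hQδ : δX (b.fiberι η ζ.1) = r + 1 := by rw [hXη, ζ.2.1]
      have h5 : δX' P' < δX' ζ'' := (hδX' ζ'' P' hsp hne).1
      have h6 := hle ζ''
      have h7 : f ζ'' = b.fiberι η ζ.1 := by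
        by_contra hcon
        have h8 : δX (f ζ'') < δX (b.fiberι η ζ.1) := (hδX _ _ hQ (Ne.symm hcon)).1
        omega
      refine ⟨h7, ?_⟩
      rw [h7] at h6
      omega
    have hT : ∀ ζ : {ζ : ↥(b.fiber η) // δXη ζ = r ∧ (b.fiberι η ζ) ⤳ f P'},
        Finite {ζ'' : X' // ζ'' ⤳ P' ∧ ζ'' ≠ P' ∧ f ζ'' = b.fiberι η ζ.1} ∧
        ((Module.length (X.presheaf.stalk (f P'))
          (Cyc.LocQuot (f P') (b.fiberι η ζ.1) ζ.2.2 ⧸
          (maximalIdeal ((Spec (CommRingCat.of R)).presheaf.stalk (b (f P')))).map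
            ((Ideal.Quotient.mk (RingHom.ker
              (Cyc.specMap (f P') (b.fiberι η ζ.1) ζ.2.2))).comp
              (b.stalkMap (f P')).hom))).toNat : ℤ) *
        ((Module.length (X'.presheaf.stalk P') (X'.presheaf.stalk P' ⧸
          Ideal.map (f.stalkMap P').hom
            (maximalIdeal (X.presheaf.stalk (f P'))))).toNat : ℤ) =
        ∑ᶠ t : {ζ'' : X' // ζ'' ⤳ P' ∧ ζ'' ≠ P' ∧ f ζ'' = b.fiberι η ζ.1},
          ((Module.length (X'.presheaf.stalk t.1) (X'.presheaf.stalk t.1 ⧸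
            Ideal.map (f.stalkMap t.1).hom
              (maximalIdeal (X.presheaf.stalk (f t.1))))).toNat : ℤ) *
            Cyc.ordAt P' t.1 t.2.1 (Cyc.specMap P' t.1 t.2.1 ((f.stalkMap P').hom tX)) := by
      intro ζ
      have hbQ : b (b.fiberι η ζ.1) = η := fiberι_mem b η ζ.1
      have hc : Cyc.specMap (f P') (b.fiberι η ζ.1) ζ.2.2 tX ≠ 0 :=
        specMap_ne_zero_of_fibre_ne b (f P') _ ζ.2.2 (by rw [hbQ, hcpX]; exact hηs) tX hmapX
      obtain ⟨hfin, hform⟩ := flat_local_key' δX' hδX' f P' (b.fiberι η ζ.1) ζ.2.2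
        (hHgen ζ) tX hc
      refine ⟨hfin, ?_⟩
      rw [← hform]
      congr 1
      congr 1
      congr 1
      have hJ : (maximalIdeal ((Spec (CommRingCat.of R)).presheaf.stalk (b (f P')))).map
          ((Ideal.Quotient.mk (RingHom.ker
            (Cyc.specMap (f P') (b.fiberι η ζ.1) ζ.2.2))).comp (b.stalkMap (f P')).hom) =
          Ideal.span {Ideal.Quotient.mk (RingHom.ker
            (Cyc.specMap (f P') (b.fiberι η ζ.1) ζ.2.2)) tX} := by
        rw [← Ideal.map_map, hmapX, Ideal.map_span, Set.image_singleton]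
      rw [hJ]
      unfold Ring.ord
      exact Module.length_eq_of_surjective
        (S := X.presheaf.stalk (f P'))
        (R := Cyc.LocQuot (f P') (b.fiberι η ζ.1) ζ.2.2)
        Ideal.Quotient.mk_surjective
    haveI hfinT : ∀ ζ : {ζ : ↥(b.fiber η) // δXη ζ = r ∧ (b.fiberι η ζ) ⤳ f P'},
        Finite {ζ'' : X' // ζ'' ⤳ P' ∧ ζ'' ≠ P' ∧ f ζ'' = b.fiberι η ζ.1} := fun ζ => (hT ζ).1
    have hfinα : {ζ : {ζ : ↥(b.fiber η) // δXη ζ = r ∧ (b.fiberι η ζ) ⤳ f P'} |
        α ζ.1 ≠ 0}.Finite := by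
      have h5 := finite_support_generizations b η α (f P')
      exact (h5.preimage (Subtype.val_injective.injOn)).subset (fun ζ hζ => ⟨hζ, ζ.2.2⟩)
    -- the sum over pairs
    let Fσ : (Σ ζ : {ζ : ↥(b.fiber η) // δXη ζ = r ∧ (b.fiberι η ζ) ⤳ f P'},
        {ζ'' : X' // ζ'' ⤳ P' ∧ ζ'' ≠ P' ∧ f ζ'' = b.fiberι η ζ.1}) → ℤ := fun j =>
      α j.1.1 * (((Module.length (X'.presheaf.stalk j.2.1) (X'.presheaf.stalk j.2.1 ⧸
            Ideal.map (f.stalkMap j.2.1).hom
              (maximalIdeal (X.presheaf.stalk (f j.2.1))))).toNat : ℤ) *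
            Cyc.ordAt P' j.2.1 j.2.2.1
              (Cyc.specMap P' j.2.1 j.2.2.1 ((f.stalkMap P').hom tX)))
    have hfinσ : (Function.support Fσ).Finite := by
      refine (Set.Finite.biUnion hfinα (fun ζ _ => Set.finite_range (Sigma.mk ζ))).subset ?_
      intro j hj
      rw [Function.mem_support] at hj
      refine Set.mem_biUnion (x := j.1) ?_ ⟨j.2, rfl⟩
      intro h0
      apply hj
      show α j.1.1 * _ = 0
      rw [h0, zero_mul]
    have hRHS : (∑ᶠ ζ : {ζ : ↥(b.fiber η) // δXη ζ = r ∧ (b.fiberι η ζ) ⤳ f P'},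
        α ζ.1 * ((Module.length (X.presheaf.stalk (f P'))
          (Cyc.LocQuot (f P') (b.fiberι η ζ.1) ζ.2.2 ⧸
          (maximalIdeal ((Spec (CommRingCat.of R)).presheaf.stalk (b (f P')))).map
            ((Ideal.Quotient.mk (RingHom.ker
              (Cyc.specMap (f P') (b.fiberι η ζ.1) ζ.2.2))).comp
              (b.stalkMap (f P')).hom))).toNat : ℤ)) *
        ((Module.length (X'.presheaf.stalk P') (X'.presheaf.stalk P' ⧸
          Ideal.map (f.stalkMap P').hom
            (maximalIdeal (X.presheaf.stalk (f P'))))).toNat : ℤ) = ∑ᶠ j, Fσ j := by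
      rw [finsum_mul, finsum_sigma_of_finite Fσ hfinσ]
      refine finsum_congr (fun ζ => ?_)
      rw [mul_assoc, (hT ζ).2, mul_finsum]
    rw [hRHS]
    -- the left side
    have hsuppG : Function.support (fun ζ' : {ζ' : ↥((f ≫ b).fiber η) //
          δX'η ζ' = r + (e : ℤ) ∧ ((f ≫ b).fiberι η ζ') ⤳ P'} =>
        Cyc.pullFun (fibMap f b η) δX'η δXη e ⇑α ζ'.1 *
        ((Module.length (X'.presheaf.stalk P')
          (Cyc.LocQuot P' ((f ≫ b).fiberι η ζ'.1) ζ'.2.2 ⧸
          (maximalIdeal ((Spec (CommRingCat.of R)).presheaf.stalk ((f ≫ b) P'))).map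
            ((Ideal.Quotient.mk (RingHom.ker
              (Cyc.specMap P' ((f ≫ b).fiberι η ζ'.1) ζ'.2.2))).comp
              ((f ≫ b).stalkMap P').hom))).toNat : ℤ)) ⊆
        {ζ' | δXη (fibMap f b η ζ'.1) = r} := by
      intro ζ' hζ'
      rw [Function.mem_support] at hζ'
      by_contra hcon
      apply hζ'
      have hcon' : ¬ δXη (fibMap f b η ζ'.1) = r := hcon
      have h5 := ζ'.2.1
      rw [pullFun_apply, if_neg (fun hc4 => hcon' (by omega)), zero_mul]
    rw [← finsum_subtype_support _ _ hsuppG]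
    let K : ({ζ' : {ζ' : ↥((f ≫ b).fiber η) //
          δX'η ζ' = r + (e : ℤ) ∧ ((f ≫ b).fiberι η ζ') ⤳ P'} |
          δXη (fibMap f b η ζ'.1) = r} : Type u) →
        (Σ ζ : {ζ : ↥(b.fiber η) // δXη ζ = r ∧ (b.fiberι η ζ) ⤳ f P'},
        {ζ'' : X' // ζ'' ⤳ P' ∧ ζ'' ≠ P' ∧ f ζ'' = b.fiberι η ζ.1}) := fun ζ' =>
      ⟨⟨fibMap f b η ζ'.1.1, ζ'.2, by
          rw [fibMap_fiberι_apply]
          exact ζ'.1.2.2.map f.continuous⟩,
        ⟨(f ≫ b).fiberι η ζ'.1.1, ζ'.1.2.2, fun h => hηs (by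
          rw [← fiberι_mem (f ≫ b) η ζ'.1.1, h]
          exact hcp'), (fibMap_fiberι_apply f b η ζ'.1.1).symm⟩⟩
    have hKinj : Function.Injective K := by
      intro ζ'₁ ζ'₂ h
      have h5 : (f ≫ b).fiberι η ζ'₁.1.1 = (f ≫ b).fiberι η ζ'₂.1.1 :=
        congrArg (fun j : (Σ ζ : {ζ : ↥(b.fiber η) // δXη ζ = r ∧ (b.fiberι η ζ) ⤳ f P'},
          {ζ'' : X' // ζ'' ⤳ P' ∧ ζ'' ≠ P' ∧ f ζ'' = b.fiberι η ζ.1}) => (j.2.1 : X')) h
      exact Subtype.ext (Subtype.ext (((f ≫ b).fiberι η).isEmbedding.injective h5))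
    have hKsurj : Function.Surjective K := by
      rintro ⟨ζ, t⟩
      have ha't : (f ≫ b) t.1 = η := by
        show b (f t.1) = η
        rw [t.2.2.2]
        exact fiberι_mem b η ζ.1
      obtain ⟨ζ', hζ'⟩ := hfibX' η t.1 ha't
      have hδζ' : δX'η ζ' = r + (e : ℤ) := by
        have h5 := hX'η ζ'
        rw [hζ'] at h5
        have h6 := (hHgen ζ t.1 t.2.1 t.2.2.1 (by rw [t.2.2.2])).2
        omega
      have hFζ' : fibMap f b η ζ' = ζ.1 := by
        apply (b.fiberι η).isEmbedding.injective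
        rw [fibMap_fiberι_apply, hζ', t.2.2.2]
      refine ⟨⟨⟨ζ', hδζ', by rw [hζ']; exact t.2.1⟩, ?_⟩, ?_⟩
      · show δXη (fibMap f b η ζ') = r
        rw [hFζ']
        exact ζ.2.1
      · exact Sigma.subtype_ext (Subtype.ext hFζ') hζ'
    refine finsum_eq_of_bijective K ⟨hKinj, hKsurj⟩ (fun ζ' => ?_)
    have h6 : δXη (fibMap f b η ζ'.1.1) = r := ζ'.2
    have h7 := ζ'.1.2.1
    show Cyc.pullFun (fibMap f b η) δX'η δXη e ⇑α ζ'.1.1 * _ =
      α (fibMap f b η ζ'.1.1) * (_ * _)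
    rw [pullFun_apply, if_pos (by omega), fibre_mult f b η ζ'.1.1, mul_assoc]
    congr 1
    congr 1
    have hδζ : δX' ((f ≫ b).fiberι η ζ'.1.1) = r + (e : ℤ) + 1 := by rw [hX'η, h7]
    have himm : ∀ z : X', (f ≫ b).fiberι η ζ'.1.1 ⤳ z → z ⤳ P' →
        z = (f ≫ b).fiberι η ζ'.1.1 ∨ z = P' := by
      intro z hz1 hz2
      by_contra hcon
      rw [not_or] at hcon
      have h8 : δX' z < δX' ((f ≫ b).fiberι η ζ'.1.1) :=
        (hδX' _ z hz1 (Ne.symm hcon.1)).1
      have h9 : δX' P' < δX' z := (hδX' z P' hz2 hcon.2).1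
      omega
    have hne' : (f ≫ b) ((f ≫ b).fiberι η ζ'.1.1) ≠ (f ≫ b) P' := by
      rw [fiberι_mem (f ≫ b) η ζ'.1.1, hcp']
      exact hηs
    rw [ordAt_specMap_eq P' _ ζ'.1.2.2 himm _ (hnzX' _ ζ'.1.2.2 hne')]
    congr 1
    congr 1
    have hJ' : (maximalIdeal ((Spec (CommRingCat.of R)).presheaf.stalk ((f ≫ b) P'))).map
        ((Ideal.Quotient.mk (RingHom.ker
          (Cyc.specMap P' ((f ≫ b).fiberι η ζ'.1.1) ζ'.1.2.2))).comp
          ((f ≫ b).stalkMap P').hom) =
        Ideal.span {Ideal.Quotient.mk (RingHom.ker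
          (Cyc.specMap P' ((f ≫ b).fiberι η ζ'.1.1) ζ'.1.2.2)) ((f.stalkMap P').hom tX)} := by
      rw [← Ideal.map_map, hmapX', Ideal.map_span, Set.image_singleton]
    rw [hJ']
    unfold Ring.ord
    exact Module.length_eq_of_surjective
      (S := X'.presheaf.stalk P')
      (R := Cyc.LocQuot P' ((f ≫ b).fiberι η ζ'.1.1) ζ'.1.2.2)
      Ideal.Quotient.mk_surjective
  -- pointwise comparison
  funext x'
  have hPx : b.fiberι (IsLocalRing.closedPoint R)
      (fibMap f b (IsLocalRing.closedPoint R) x') =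
      f ((f ≫ b).fiberι (IsLocalRing.closedPoint R) x') :=
    fibMap_fiberι_apply f b (IsLocalRing.closedPoint R) x'
  have hd' := hX's x'
  have hd : δX (f ((f ≫ b).fiberι (IsLocalRing.closedPoint R) x')) =
      δXs (fibMap f b (IsLocalRing.closedPoint R) x') := by
    rw [← hPx]
    exact hXs _
  have hle' : δX's x' ≤ δXs (fibMap f b (IsLocalRing.closedPoint R) x') + (e : ℤ) := by
    have h5 := hle ((f ≫ b).fiberι (IsLocalRing.closedPoint R) x')
    rw [hd', hd] at h5
    exact h5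
  have hcpx' : (f ≫ b) ((f ≫ b).fiberι (IsLocalRing.closedPoint R) x') =
      IsLocalRing.closedPoint R := fiberι_mem (f ≫ b) _ x'
  rw [spFun_apply, pullFun_apply]
  by_cases hc1 : δX's x' = r + (e : ℤ)
  · rw [if_pos hc1]
    by_cases hc2 : δXs (fibMap f b (IsLocalRing.closedPoint R) x') = r
    · have hc3 : δX's x' = δXs (fibMap f b (IsLocalRing.closedPoint R) x') + (e : ℤ) := by
        rw [hc1, hc2]
      rw [if_pos hc3, spFun_apply, if_pos hc2, fibre_mult f b (IsLocalRing.closedPoint R) x']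
      exact key _ _ hPx.symm hcpx' (by rw [hd']; exact hc1) (by rw [hXs]; exact hc2)
    · have hR0 : (if δX's x' = δXs (fibMap f b (IsLocalRing.closedPoint R) x') + (e : ℤ) then
          Cyc.spFun b η (IsLocalRing.closedPoint R) δXη δXs r ⇑α
            (fibMap f b (IsLocalRing.closedPoint R) x') *
          ((Module.length (((f ≫ b).fiber (IsLocalRing.closedPoint R)).presheaf.stalk x')
            (((f ≫ b).fiber (IsLocalRing.closedPoint R)).presheaf.stalk x' ⧸
              Ideal.map ((fibMap f b (IsLocalRing.closedPoint R)).stalkMap x').hom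
                (maximalIdeal ((b.fiber (IsLocalRing.closedPoint R)).presheaf.stalk
                  (fibMap f b (IsLocalRing.closedPoint R) x'))))).toNat : ℤ) else 0) = 0 := by
        split_ifs with hc3
        · rw [spFun_apply, if_neg hc2, zero_mul]
        · rfl
      rw [hR0]
      refine finsum_eq_zero_of_forall_eq_zero (fun ζ' => ?_)
      rw [pullFun_apply]
      by_cases hc4 : δX'η ζ'.1 = δXη (fibMap f b η ζ'.1) + (e : ℤ)
      · exfalso
        apply hc2
        have h5 := ζ'.2.1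
        have h6 : δXη (fibMap f b η ζ'.1) = r := by omega
        have h7 : δX (b.fiberι η (fibMap f b η ζ'.1)) = r + 1 := by rw [hXη, h6]
        rw [fibMap_fiberι_apply] at h7
        have h8 : f ((f ≫ b).fiberι η ζ'.1) ⤳
            f ((f ≫ b).fiberι (IsLocalRing.closedPoint R) x') := ζ'.2.2.map f.continuous
        have h9 : f ((f ≫ b).fiberι η ζ'.1) ≠
            f ((f ≫ b).fiberι (IsLocalRing.closedPoint R) x') := by
          intro h
          apply hηs
          have h10 : (f ≫ b) ((f ≫ b).fiberι η ζ'.1) =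
              (f ≫ b) ((f ≫ b).fiberι (IsLocalRing.closedPoint R) x') := congrArg b h
          rw [fiberι_mem (f ≫ b) η ζ'.1, hcpx'] at h10
          exact h10
        have h11 := (hδX _ _ h8 h9).1
        omega
      · rw [if_neg hc4, zero_mul]
  · rw [if_neg hc1]
    symm
    split_ifs with hc3
    · have hc2 : δXs (fibMap f b (IsLocalRing.closedPoint R) x') ≠ r := fun h => hc1 (by
        rw [hc3, h])
      rw [spFun_apply, if_neg hc2, zero_mul]
    · rfl

end Main

end Groth.Agent.Helper7.Spz
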